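import Cfsg.Agent.Lib.Recog.AltNine.Model
import Cfsg.Agent.Lib.Recog.SymNine.Interface

/-!
Monomial rotations of three coordinates: the facts used for the centraliser of an element of the
elementary subgroup of order 81.
-/

set_option autoImplicit false
set_option maxRecDepth 4000
set_option synthInstance.maxSize 4000

namespace CfsgLib.Recog.McLThree.WeakY

open CfsgLib.Block CfsgLib.Block.FourCube
open CfsgLib.Recog.AltNine (detX bigV vecOf monOf liftM)
open CfsgLib.Recog.SymNine (V Mon act comp monOne x0 e0 e1 e2 get weight pcomp)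

/-- the three diagonal involutions -/
def dia : Fin 3 → Mon :=
  ![(0, false, true, true), (0, true, false, true), (0, true, true, false)]

/-- the cycle of the coordinates -/
abbrev cyc : Mon := (1, false, false, false)

/-- rotations with even permutation -/
def evX (m : Mon) : Bool := detX m && decide (m.1.val < 3)

theorem comp_detX : ∀ m n : Mon, detX m = true → detX n = true → detX (comp m n) = true := by
  decide +kernel

theorem comp_monOne : ∀ m : Mon, comp m monOne = m ∧ comp monOne m = m := by decide +kernel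

/-- the even rotations are generated by the cycle and the involutions -/
theorem ev_gen : ∀ m : Mon, detX m = true → m.1.val < 3 →
    ∃ i : Fin 3, ∃ d : Fin 4,
      m = comp (![monOne, dia 0, dia 1, dia 2] d) (![monOne, cyc, comp cyc cyc] i) := by
  decide +kernel

theorem ev_quot : ∀ m m₀ : Mon, detX m = true → detX m₀ = true → 3 ≤ m.1.val → 3 ≤ m₀.1.val →
    ∃ k : Mon, (detX k = true ∧ k.1.val < 3) ∧ comp k m₀ = m := by
  decide +kernel

theorem dia_facts : (∀ j, detX (dia j) = true) ∧ (∀ j, dia j ≠ monOne) ∧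
    (∀ j k, comp (dia j) (dia k) = comp (dia k) (dia j)) ∧ comp (dia 0) (dia 1) = dia 2 := by
  decide +kernel

theorem dia_sq : ∀ (j : Fin 3) (v : V), act (dia j) (act (dia j) v) = v := by decide +kernel

theorem dia_get : ∀ (j : Fin 3) (v : V), v + act (dia j) v = 0 → get v j = 0 := by decide +kernel

theorem dia_conj : ∀ m : Mon, detX m = true → ∀ i : Fin 3, ∃ j : Fin 3,
    comp m (dia i) = comp (dia j) m := by
  decide +kernel

theorem comp_cancel : ∀ (m : Mon) (j k : Fin 3), detX m = true → comp (dia j) m = comp (dia k) m →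
    j = k := by
  decide +kernel

theorem comp_inj_left : ∀ (m : Mon) (i k : Fin 3), detX m = true → comp m (dia i) = comp m (dia k) →
    i = k := by
  decide +kernel

/-- the correcting vector -/
def fix2 (j : Fin 3) (v v' : V) : V :=
  let f : Fin 3 → ZMod 3 := fun l => if l = j then get v' l else get v l
  (f 0, f 1, f 2)

theorem fix2_spec : ∀ j k : Fin 3, j ≠ k → ∀ v v' : V, get v j = 0 → get v' k = 0 →
    v + act (dia j) v' = v' + act (dia k) v →
    fix2 j v v' + v - act (dia j) (fix2 j v v') = 0 ∧
      fix2 j v v' + v' - act (dia k) (fix2 j v v') = 0 := by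
  decide +kernel

theorem dia_fix_two : ∀ v : V, act (dia 0) v = v → act (dia 1) v = v → v = 0 := by decide +kernel

theorem dia_span : ∀ (j : Fin 3) (v : V), act (dia j) v = v → ∃ k : ZMod 3,
    v = ![(k, 0, 0), (0, k, 0), (0, 0, k)] j := by
  decide +kernel

/-- the vector of the translation part -/
def vecpart (g : Big) : V := vecOf (g * (liftM (monOf g))⁻¹)

theorem big_decomp : ∀ a p, Ev (⟨a, p⟩ : Big) →
    bigV (vecpart ⟨a, p⟩) * liftM (monOf ⟨a, p⟩) = (⟨a, p⟩ : Big) := by
  decide +kernel

theorem big_parts : ∀ (v : V) (m : Mon), detX m = true →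
    monOf (bigV v * liftM m) = m ∧ vecpart (bigV v * liftM m) = v := by
  decide +kernel

theorem liftM_comp : ∀ m n : Mon, detX m = true → detX n = true →
    liftM (comp m n) = liftM m * liftM n := by
  decide +kernel

theorem inJ_monOf : ∀ a p, Ev (⟨a, p⟩ : Big) → (InJ (⟨a, p⟩ : Big) ↔ monOf ⟨a, p⟩ = monOne) := by
  decide +kernel

theorem mdl_facts : ∀ a : ThreeCube.Tri, ThreeCube.Evn a →
    Ev (⟨a, 1⟩ : Big) ∧ (monOf (⟨a, 1⟩ : Big)).1 = 0 := by
  decide +kernel

theorem mdl_surj : ∀ a p, Ev (⟨a, p⟩ : Big) → (monOf (⟨a, p⟩ : Big)).1 = 0 →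
    p = 1 ∧ ThreeCube.Evn a := by
  decide +kernel

/-- the image of a permutation index in the cyclic group -/
def rot (m : Mon) : Multiplicative (ZMod 3) := Multiplicative.ofAdd ((m.1.val : ℕ) : ZMod 3)

theorem rot_comp : ∀ m n : Mon, m.1.val < 3 → n.1.val < 3 → rot (comp m n) = rot m * rot n := by
  decide +kernel

theorem rot_facts : rot monOne = 1 ∧ rot cyc ≠ 1 ∧
    (∀ m : Mon, m.1.val < 3 → rot m = 1 → m.1 = 0) ∧ (∀ m : Mon, m.1 = 0 → rot m = 1) := by
  decide +kernel

theorem orbit_one : ∀ v : V, weight v = 1 → ∃ i : Fin 3, act (![monOne, cyc, comp cyc cyc] i) e1 = v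
    ∨ act (![monOne, cyc, comp cyc cyc] i) e1 = -v := by
  decide +kernel

theorem orbit_three : ∀ v : V, weight v = 3 → ∃ d : Fin 4, act (![monOne, dia 0, dia 1, dia 2] d) x0 = v
    ∨ act (![monOne, dia 0, dia 1, dia 2] d) x0 = -v := by
  decide +kernel

theorem weight_cases : ∀ v : V, v ≠ 0 → weight v = 1 ∨ weight v = 2 ∨ weight v = 3 := by decide +kernel

theorem two_stab : ∀ v : V, weight v = 2 → ∀ m : Mon, detX m = true → m.1.val < 3 → act m v = v →
    m = monOne := by
  decide +kernel

theorem low_stab : ∀ v : V, v ≠ 0 → weight v ≤ 2 → ∀ m : Mon, detX m = true → m.1.val < 3 →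
    act m v = v → m.1 = 0 := by
  decide +kernel

theorem three_stab : ∀ v : V, weight v = 3 → ∀ m : Mon, detX m = true → m.1.val < 3 → act m v = v →
    comp m (comp m m) = monOne := by
  decide +kernel

theorem cube_mon : ∀ m : Mon, detX m = true → comp m (comp m m) = monOne → m ≠ monOne →
    m.1.val = 1 ∨ m.1.val = 2 := by
  decide +kernel

theorem diag_cube : ∀ m : Mon, detX m = true → m.1 = 0 → comp m (comp m m) = monOne → m = monOne := by
  decide +kernel

/-- the powers of a monomial map up to the second -/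
def pw (m : Mon) : Fin 3 → Mon := ![monOne, m, comp m m]

theorem cube_comm : ∀ m : Mon, detX m = true → comp m (comp m m) = monOne → m ≠ monOne →
    ∀ n : Mon, detX n = true → comp n (comp n n) = monOne → comp m n = comp n m →
      ∃ i, n = pw m i := by
  decide +kernel

theorem ev_comm : ∀ m : Mon, detX m = true → comp m (comp m m) = monOne → m ≠ monOne →
    ∀ n : Mon, detX n = true → n.1.val < 3 → comp m n = comp n m → ∃ i, n = pw m i := by
  decide +kernel

theorem fix_line : ∀ m : Mon, detX m = true → comp m (comp m m) = monOne → m ≠ monOne →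
    ∃ f : V, f ≠ 0 ∧ weight f = 3 ∧ act m f = f ∧
      (∀ v : V, act m v = v → v = 0 ∨ v = f ∨ v = -f) ∧
      (∀ n : Mon, detX n = true → n.1.val < 3 → act n f ≠ -f) ∧
      ∃ a : V, a - act m a = f := by
  decide +kernel

theorem move_line : ∀ m : Mon, detX m = true → comp m (comp m m) = monOne → m ≠ monOne →
    ∀ w : V, act m w = w → ∃ a : V, a - act m a = w := by
  decide +kernel

end CfsgLib.Recog.McLThree.WeakY
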