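import Cfsg.Agent.Lib.Recog.McLThree.WeakY.Sing
import Cfsg.Agent.Lib.Recog.McLThree.WeakY.Model

/-!
A basis of `J`: the element `y` and three elements permuted cyclically, each fixed by one of the three
involutions and inverted by the other two.
-/

set_option autoImplicit false
set_option linter.style.haveILetI false
set_option linter.unusedSectionVars false
set_option maxRecDepth 4000
set_option synthInstance.maxSize 4000

namespace CfsgLib.Recog.McLThree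

open Subgroup

theorem exists_rot3 : ∃ s : A6, s * t0 * s⁻¹ = u0 ∧ s * u0 * s⁻¹ = t0 * u0 ∧ s * s * s = 1 := by
  decide +kernel

theorem w0_u0 : w0 * u0 * w0⁻¹ = t0 * u0 := by decide +kernel

theorem exists_m {G : Type*} [Group G] [Finite G] {h : Hyp G} (c : Coords h) :
    ∃ m : h.M0, c.pi m * t0 * (c.pi m)⁻¹ = u0 ∧ c.pi m * u0 * (c.pi m)⁻¹ = t0 * u0 ∧
      m ^ 9 = 1 ∧ ((m ^ 3 : h.M0) : G) ∈ h.J := by
  obtain ⟨s, h1, h2, h3⟩ := exists_rot3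
  obtain ⟨m, rfl⟩ := c.pi_surj s
  have hm3 : ((m ^ 3 : h.M0) : G) ∈ h.J :=
    (c.pi_ker _).1 (by rw [map_pow, pow_succ, pow_two, h3])
  exact ⟨m, h1, h2, Subtype.ext (by
    show ((m ^ 9 : h.M0) : G) = 1
    rw [show (9 : ℕ) = 3 * 3 from rfl, pow_mul]
    exact h.J_exp _ hm3), hm3⟩

variable {G : Type*} [Group G] [Finite G] {h : Hyp G}

namespace Coords

variable (c : Coords h)

/-- An element permuting the three involutions cyclically. -/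
noncomputable def mm : h.M0 := (exists_m c).choose

/-- It, in the group. -/
noncomputable abbrev Mel : G := (c.mm : G)

theorem mm_spec : c.pi c.mm * t0 * (c.pi c.mm)⁻¹ = u0 ∧
    c.pi c.mm * u0 * (c.pi c.mm)⁻¹ = t0 * u0 ∧ c.mm ^ 9 = 1 ∧ ((c.mm ^ 3 : h.M0) : G) ∈ h.J :=
  (exists_m c).choose_spec

/-- Members of `M0` with one image act alike on `J`. -/
theorem same_act {k k' : h.M0} (e : c.pi k = c.pi k') {x : G} (hx : x ∈ h.J) :
    (k : G) * x * (k : G)⁻¹ = (k' : G) * x * (k' : G)⁻¹ := by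
  have hj : ((k'⁻¹ * k : h.M0) : G) ∈ h.J := (c.pi_ker _).1 (by rw [map_mul, map_inv, e, inv_mul_cancel])
  simp only [Subgroup.coe_mul, Subgroup.coe_inv] at hj
  calc (k : G) * x * (k : G)⁻¹
      = (k' : G) * (((k' : G)⁻¹ * k) * x * ((k' : G)⁻¹ * k)⁻¹) * (k' : G)⁻¹ := by group
    _ = _ := by rw [h.J_comm _ hj x hx, mul_inv_cancel_right]

theorem Mel_normJ : c.Mel ∈ normalizer (h.J : Set G) := h.M0_le_normJ c.mm.2

/-- Transport by `Mel` of an action on `J`. -/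
theorem transport {k k' : h.M0} (e : c.pi c.mm * c.pi k * (c.pi c.mm)⁻¹ = c.pi k') {x x' : G}
    (hx : x ∈ h.J) (hk : (k : G) * x * (k : G)⁻¹ = x') :
    (k' : G) * (c.Mel * x * c.Mel⁻¹) * (k' : G)⁻¹ = c.Mel * x' * c.Mel⁻¹ := by
  rw [← map_inv, ← map_mul, ← map_mul] at e
  rw [← c.same_act e (h.conj_J c.Mel_normJ hx), ← hk]
  simp only [Subgroup.coe_mul, Subgroup.coe_inv, Mel]
  group

theorem T_y : c.T * c.y * c.T⁻¹ = c.y := by
  have := mem_centralizer_singleton_iff.1 c.y_mem_E.2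
  rw [← this, mul_inv_cancel_right]

theorem U_z : c.U * h.z * c.U⁻¹ = c.z' := rfl

theorem U_y : c.U * c.y * c.U⁻¹ = c.y := by
  show c.U * (h.z * c.z') * c.U⁻¹ = h.z * c.z'
  rw [← conj_mul, c.U_conj_z']
  exact (h.J_comm _ h.z_mem_J _ c.z'_mem_E.1).symm

theorem W_y : c.W * c.y * c.W⁻¹ = c.y⁻¹ := by
  show c.W * (h.z * c.z') * c.W⁻¹ = (h.z * c.z')⁻¹
  rw [← conj_mul, c.W_z, c.W_z', h.J_comm _ (inv_mem h.z_mem_J) _ (inv_mem c.z'_mem_E.1)]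
  exact (mul_inv_rev _ _).symm

theorem y_ne : c.y ≠ 1 := fun e => c.z'_notMem_Z (by
  rw [eq_inv_of_mul_eq_one_right e]; exact inv_mem (mem_zpowers _))

theorem y_cube : c.y ^ 3 = 1 := h.J_exp _ c.y_mem_J

theorem pi_TU : c.pi (c.w * c.w * c.u) = t0 * u0 := by rw [map_mul, c.pi_T, c.pi_u]

theorem eq_y_of_fix {x : G} (hx : x ∈ c.E) (hU : c.U * x * c.U⁻¹ = x) : x ∈ zpowers c.y := by
  obtain ⟨a, b, rfl⟩ := c.mem_E_iff.1 hx
  rw [← conj_mul, ← conj_pow, ← conj_pow, c.U_conj_z', c.U_z] at hU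
  by_cases hab : a = b
  · subst hab
    rw [← (show Commute h.z c.z' from h.J_comm _ h.z_mem_J _ c.z'_mem_E.1).mul_pow]
    exact pow_mem (mem_zpowers _) _
  · exfalso
    have h1 : c.z' ^ ((a : ℤ) - b) = h.z ^ ((a : ℤ) - b) := by
      rw [zpow_sub, zpow_sub, zpow_natCast, zpow_natCast, zpow_natCast, zpow_natCast,
        eq_mul_inv_of_mul_eq hU]
      have hc : Commute (c.z' ^ (b : ℕ)) (h.z ^ (b : ℕ))⁻¹ :=
        (((show Commute c.z' h.z from h.J_comm _ c.z'_mem_E.1 _ h.z_mem_J)).pow_pow _ _).inv_right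
      rw [mul_assoc (h.z ^ (a : ℕ)), hc.eq]
      group
    refine c.z'_notMem_Z ?_
    have hmem : c.z' ^ ((a : ℤ) - b) ∈ h.Z := h1 ▸ zpow_mem (mem_zpowers _) _
    have hd : ((a : ℤ) - b) = 1 ∨ ((a : ℤ) - b) = 2 ∨ ((a : ℤ) - b) = -1 ∨ ((a : ℤ) - b) = -2 := by
      have := Fin.val_ne_of_ne hab
      omega
    have h3 : c.z' ^ (3 : ℤ) = 1 := by
      rw [show (3 : ℤ) = ((3 : ℕ) : ℤ) from rfl, zpow_natCast, c.z'_cube]
    rcases hd with e | e | e | e <;> rw [e] at hmem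
    · rwa [zpow_one] at hmem
    · have := inv_mem hmem
      rwa [← zpow_neg, show (-2 : ℤ) = 1 - 3 by norm_num, zpow_sub, h3, inv_one, mul_one, zpow_one]
        at this
    · have := inv_mem hmem
      rwa [← zpow_neg, neg_neg, zpow_one] at this
    · rwa [show (-2 : ℤ) = 1 - 3 by norm_num, zpow_sub, h3, inv_one, mul_one, zpow_one] at hmem

theorem M_y : c.Mel * c.y * c.Mel⁻¹ = c.y := by
  obtain ⟨h1, h2, h9, -⟩ := c.mm_spec
  have hy := h.conj_J c.Mel_normJ c.y_mem_J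
  have hT := c.transport (k := c.w * c.w) (k' := c.u) (by rw [c.pi_T, c.pi_u]; exact h1) c.y_mem_J c.T_y
  have hTU := c.transport (k := c.u) (k' := c.w * c.w * c.u) (by rw [c.pi_u, c.pi_TU]; exact h2)
    c.y_mem_J c.U_y
  have hU : c.U * (c.Mel * c.y * c.Mel⁻¹) * c.U⁻¹ = c.Mel * c.y * c.Mel⁻¹ := hT
  set x := c.Mel * c.y * c.Mel⁻¹
  have hT' : c.T * x * c.T⁻¹ = x := by
    have h3 : c.T * c.U * x * (c.T * c.U)⁻¹ = x := hTU
    conv_lhs => rw [← hU]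
    rw [show c.T * (c.U * x * c.U⁻¹) * c.T⁻¹ = c.T * c.U * x * (c.T * c.U)⁻¹ by group]
    exact h3
  have hxE : x ∈ c.E := ⟨hy, mem_centralizer_singleton_iff.2 (mul_inv_eq_iff_eq_mul.1 hT').symm⟩
  obtain ⟨n, hn⟩ := mem_zpowers_iff.1 (c.eq_y_of_fix hxE hU)
  have hc := c.y_cube
  have h0 : n % 3 = 0 ∨ n % 3 = 1 ∨ n % 3 = 2 := by omega
  have hord : orderOf c.y = 3 := by
    haveI : Fact (Nat.Prime 3) := ⟨by norm_num⟩
    exact orderOf_eq_prime hc c.y_ne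
  rw [← zpow_mod_orderOf, hord] at hn
  rcases h0 with e | e | e <;> rw [Nat.cast_ofNat, e] at hn
  · exact absurd (conj_eq_one_iff.1 ((zpow_zero c.y).symm.trans hn).symm) c.y_ne
  · rw [zpow_one] at hn; exact hn.symm
  · exfalso
    have hinv : x = c.y⁻¹ := hn.symm.trans (eq_inv_of_mul_eq_one_left (by
      rw [show (2 : ℤ) = ((2 : ℕ) : ℤ) from rfl, zpow_natCast, ← pow_succ, hc]))
    have hsq : c.Mel ^ 2 * c.y * (c.Mel ^ 2)⁻¹ = c.y := by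
      rw [pow_two, show c.Mel * c.Mel * c.y * (c.Mel * c.Mel)⁻¹ = c.Mel * (c.Mel * c.y * c.Mel⁻¹) * c.Mel⁻¹ by
        group, show c.Mel * c.y * c.Mel⁻¹ = c.y⁻¹ from hinv, ← conj_inv,
        show c.Mel * c.y * c.Mel⁻¹ = c.y⁻¹ from hinv, inv_inv]
    have h9' : c.Mel ^ 9 = 1 := congrArg Subtype.val h9
    have h10 : c.Mel = (c.Mel ^ 2) ^ 5 := by rw [← pow_mul, pow_succ, h9', one_mul]
    have hfix : c.Mel * c.y * c.Mel⁻¹ = c.y := by
      rw [h10]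
      exact mul_inv_eq_iff_eq_mul.2 ((show Commute (c.Mel ^ 2) c.y from mul_inv_eq_iff_eq_mul.1 hsq).pow_left 5).eq
    rw [show c.Mel * c.y * c.Mel⁻¹ = c.y⁻¹ from hinv] at hfix
    refine c.y_ne ?_
    have h2 : c.y ^ 2 = 1 := by rw [pow_two]; nth_rewrite 1 [← hfix]; exact inv_mul_cancel _
    rw [← hc, pow_succ, h2, one_mul]

/-- The first basis element. -/
abbrev e₀ : G := h.z * c.z'⁻¹
/-- The second basis element. -/
noncomputable abbrev e₁ : G := c.Mel * c.e₀ * c.Mel⁻¹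
/-- The third basis element. -/
noncomputable abbrev e₂ : G := c.Mel * c.e₁ * c.Mel⁻¹

theorem e₀_mem : c.e₀ ∈ h.J := mul_mem h.z_mem_J (inv_mem c.z'_mem_E.1)
theorem e₁_mem : c.e₁ ∈ h.J := h.conj_J c.Mel_normJ c.e₀_mem
theorem e₂_mem : c.e₂ ∈ h.J := h.conj_J c.Mel_normJ c.e₁_mem

theorem e₀_ne : c.e₀ ≠ 1 := fun e => c.z'_ne_z.1 (mul_inv_eq_one.1 e).symm

theorem T_e₀ : c.T * c.e₀ * c.T⁻¹ = c.e₀ := by
  have := mem_centralizer_singleton_iff.1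
    (mul_mem c.z_mem_E (inv_mem c.z'_mem_E) : c.e₀ ∈ c.E).2
  rw [← this, mul_inv_cancel_right]

theorem U_e₀ : c.U * c.e₀ * c.U⁻¹ = c.e₀⁻¹ := by
  rw [← conj_mul, ← conj_inv, c.U_conj_z', c.U_z, mul_inv_rev, inv_inv]

theorem U_e₁ : c.U * c.e₁ * c.U⁻¹ = c.e₁ :=
  c.transport (k := c.w * c.w) (k' := c.u) (by rw [c.pi_T, c.pi_u]; exact c.mm_spec.1) c.e₀_mem c.T_e₀

theorem TU_e₁ : c.T * c.U * c.e₁ * (c.T * c.U)⁻¹ = c.e₁⁻¹ := by
  have := c.transport (k := c.u) (k' := c.w * c.w * c.u)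
    (by rw [c.pi_u, c.pi_TU]; exact c.mm_spec.2.1) c.e₀_mem c.U_e₀
  rw [← conj_inv] at this
  exact this

theorem T_e₁ : c.T * c.e₁ * c.T⁻¹ = c.e₁⁻¹ := by
  conv_lhs => rw [← c.U_e₁]
  rw [show c.T * (c.U * c.e₁ * c.U⁻¹) * c.T⁻¹ = c.T * c.U * c.e₁ * (c.T * c.U)⁻¹ by group]
  exact c.TU_e₁

theorem U_e₂ : c.U * c.e₂ * c.U⁻¹ = c.e₂⁻¹ := by
  have := c.transport (k := c.w * c.w) (k' := c.u) (by rw [c.pi_T, c.pi_u]; exact c.mm_spec.1)
    c.e₁_mem c.T_e₁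
  rw [← conj_inv] at this
  exact this

theorem T_e₂ : c.T * c.e₂ * c.T⁻¹ = c.e₂⁻¹ := by
  have h1 : c.T * c.U * c.e₂ * (c.T * c.U)⁻¹ = c.e₂ :=
    c.transport (k := c.u) (k' := c.w * c.w * c.u)
      (by rw [c.pi_u, c.pi_TU]; exact c.mm_spec.2.1) c.e₁_mem c.U_e₁
  rw [show c.T * c.U * c.e₂ * (c.T * c.U)⁻¹ = c.T * (c.U * c.e₂ * c.U⁻¹) * c.T⁻¹ by group, c.U_e₂,
    ← conj_inv] at h1
  exact inv_eq_iff_eq_inv.1 h1

theorem M_e₂ : c.Mel * c.e₂ * c.Mel⁻¹ = c.e₀ := by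
  have hj : c.Mel ^ 3 ∈ h.J := c.mm_spec.2.2.2
  calc c.Mel * c.e₂ * c.Mel⁻¹ = c.Mel ^ 3 * c.e₀ * (c.Mel ^ 3)⁻¹ := by
        simp only [e₂, e₁, pow_succ, pow_zero, one_mul]; group
    _ = c.e₀ := by rw [h.J_comm _ hj _ c.e₀_mem, mul_inv_cancel_right]

theorem mem_A_of_inverted {x : G} (hx : x ∈ h.J) (hT : c.T * x * c.T⁻¹ = x⁻¹) : x ∈ h.A := by
  refine ⟨hx, ?_⟩
  have h1 := c.T_comm_L0 (h.S_le_L0 (h.J_le hx))
  rw [hT, ← mul_inv_rev] at h1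
  have h3 := h.J_exp x hx
  rw [pow_succ, pow_two] at h3
  rw [eq_inv_of_mul_eq_one_right h3]
  exact h1

end Coords

end CfsgLib.Recog.McLThree
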