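import Cfsg.Agent.Lib.Recog.McLThree.WeakY.Even

/-!
Only even permutations: the subgroup of order 27 is strongly closed and the normaliser controls the
fusion of the cycles.
-/

set_option autoImplicit false
set_option linter.style.haveILetI false

namespace CfsgLib.Recog.McLThree.WeakY

open Subgroup
open CfsgLib.Recog.AltNine (detX)
open CfsgLib.Recog.SymNine (V Mon act comp monOne x0 e0 e1 e2 weight Acts Norms)

universe u

variable {H : Type u} [Group H] (D : Setup H)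

namespace Setup

theorem pt_conj_acts {g : H} {m : Mon} (hg : Acts D.pt g m) (a : V) :
    D.pt a * g * (D.pt a)⁻¹ = D.pt (a - act m a) * g := by
  have e : g * D.pt (-a) = D.pt (act m (-a)) * g := mul_inv_eq_iff_eq_mul.1 (hg (-a))
  have hneg : act m (-a) = -act m a := by
    have h := CfsgLib.Recog.SymNine.act_add m a (-a)
    rw [add_neg_cancel] at h
    have h0 : ∀ m : Mon, act m 0 = 0 := by decide +kernel
    rw [h0] at h
    exact eq_neg_of_add_eq_zero_right h.symm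
  rw [← D.pt_neg, mul_assoc, e, hneg, ← mul_assoc, ← D.pt_add, sub_eq_add_neg]

theorem not_inverted {f : V} (hf : f ≠ 0) : D.pt f ≠ (D.pt f)⁻¹ := fun e => by
  rw [← D.pt_neg] at e
  exact hf ((by decide +kernel : ∀ f : V, f = -f → f = 0) f (D.pt_inj e))

/-- `J` is strongly closed in the normaliser. -/
theorem closed [Finite H] (hev : D.IsEven) {g : H} (w : V) (h : g * D.pt w * g⁻¹ ∈ D.N) :
    g * D.pt w * g⁻¹ ∈ D.J := by
  set v := g * D.pt w * g⁻¹ with hv
  by_contra hvJ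
  have hv3 : v ^ 3 = 1 := by rw [hv, conj_pow, D.pt_cube]; group
  obtain ⟨m, hm, hvm⟩ := D.exists_mon h
  have hm1 : m ≠ monOne := fun e => hvJ (D.mem_J_of_acts (e ▸ hvm))
  obtain ⟨f, hf0, -, hmf, -, hinv, a, ha⟩ := fix_line m hm (D.mon_cube hvm hv3) hm1
  set d := D.pt f with hd
  have hdv : Commute v d := D.commute_of_fix hvm hmf
  set x := g⁻¹ * d * g with hx
  have hw0 : w ≠ 0 := by
    intro e
    exact hvJ (by rw [hv, e, D.pt_zero, mul_one, mul_inv_cancel]; exact one_mem _)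
  have hxw : Commute x (D.pt w) := by
    have := (hdv.symm.map (MulAut.conj g⁻¹).toMonoidHom)
    simp only [MulEquiv.coe_toMonoidHom, MulAut.conj_apply, inv_inv] at this
    rwa [hv, show g⁻¹ * (g * D.pt w * g⁻¹) * g = D.pt w by group] at this
  have hxN := D.cent_le hev hw0 hxw
  obtain ⟨n, hn, hxn⟩ := D.exists_mon hxN
  by_cases hn1 : n = monOne
  · -- `g` normalises
    have hxJ : x ∈ D.J := D.mem_J_of_acts (hn1 ▸ hxn)
    have hg : g ∈ D.N := D.mem_N_of_conj fun b => D.cent_le hev hf0 (by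
      have := (D.J_comm (D.pt_mem b) hxJ).map (MulAut.conj g).toMonoidHom
      simp only [MulEquiv.coe_toMonoidHom, MulAut.conj_apply] at this
      rwa [hx, show g * (g⁻¹ * d * g) * g⁻¹ = d by group] at this)
    obtain ⟨b, hb⟩ := D.mem_N_iff.1 hg w
    exact hvJ (by rw [hv, hb]; exact D.pt_mem b)
  have hx3 : x ^ 3 = 1 := by
    rw [hx, show g⁻¹ * d * g = g⁻¹ * d * g⁻¹⁻¹ by group, conj_pow, hd, D.pt_cube]; group
  have hnw := D.acts_fix hxn hxw
  obtain ⟨b, hb⟩ := move_line n hn (D.mon_cube hxn hx3) hn1 (-w) (by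
    have h := CfsgLib.Recog.SymNine.act_add n w (-w)
    rw [add_neg_cancel, hnw] at h
    have h0 : ∀ m : Mon, act m 0 = 0 := by decide +kernel
    rw [h0] at h
    exact eq_neg_of_add_eq_zero_right h.symm)
  set A := D.pt a
  set B := g * D.pt b * g⁻¹
  have hAv : A * v * A⁻¹ = d * v := by rw [D.pt_conj_acts hvm, ha]
  have hAd : A * d * A⁻¹ = d := by rw [(D.commute_pt a f).eq, mul_inv_cancel_right]
  have hBd : B * d * B⁻¹ = v⁻¹ * d := by
    calc B * d * B⁻¹ = g * (D.pt b * x * (D.pt b)⁻¹) * g⁻¹ := by simp only [B, x]; group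
      _ = g * (D.pt (-w) * x) * g⁻¹ := by rw [D.pt_conj_acts hxn, hb]
      _ = v⁻¹ * d := by rw [D.pt_neg]; simp only [x, v]; group
  have hBv : B * v * B⁻¹ = v := by
    calc B * v * B⁻¹ = g * (D.pt b * D.pt w * (D.pt b)⁻¹) * g⁻¹ := by simp only [B, v]; group
      _ = v := by rw [(D.commute_pt b w).eq, mul_inv_cancel_right]
  set M := A * B * A with hM
  have hMd : M * d * M⁻¹ = v⁻¹ := by
    calc M * d * M⁻¹ = A * (B * (A * d * A⁻¹) * B⁻¹) * A⁻¹ := by simp only [M]; group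
      _ = A * (v⁻¹ * d) * A⁻¹ := by rw [hAd, hBd]
      _ = (A * v * A⁻¹)⁻¹ * (A * d * A⁻¹) := by group
      _ = (d * v)⁻¹ * d := by rw [hAv, hAd]
      _ = v⁻¹ := by group
  have hMv : M * v * M⁻¹ = d := by
    calc M * v * M⁻¹ = A * (B * (A * v * A⁻¹) * B⁻¹) * A⁻¹ := by simp only [M]; group
      _ = A * ((B * d * B⁻¹) * (B * v * B⁻¹)) * A⁻¹ := by rw [hAv]; group
      _ = A * d * A⁻¹ := by
          rw [hBd, hBv, mul_assoc v⁻¹, ← hdv.eq, inv_mul_cancel_left]
      _ = d := hAd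
  have hM2 : M * M * d * (M * M)⁻¹ = d⁻¹ := by
    calc M * M * d * (M * M)⁻¹ = M * (M * d * M⁻¹) * M⁻¹ := by group
      _ = (M * v * M⁻¹)⁻¹ := by rw [hMd]; group
      _ = d⁻¹ := by rw [hMv]
  have hMN : M * M ∈ D.N := D.mem_N_of_conj fun c => D.cent_le hev hf0 (by
    have := ((D.commute_pt c f).map (MulAut.conj (M * M)).toMonoidHom)
    simp only [MulEquiv.coe_toMonoidHom, MulAut.conj_apply] at this
    rw [hM2] at this
    have h2 := this.inv_right
    rw [inv_inv] at h2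
    exact h2)
  obtain ⟨k, hk, hMk⟩ := D.exists_mon hMN
  refine hinv k hk (hev _ k hk hMk) (D.pt_inj ?_)
  rw [← hMk, hM2, hd, D.pt_neg]

/-- the centraliser in the normaliser of a cycle -/
theorem cent_cycle [Finite H] (hev : D.IsEven) {u x : H} {m : Mon} (hm : detX m = true)
    (hu : Acts D.pt u m) (hu3 : u ^ 3 = 1) (hm1 : m ≠ monOne) (hx : x ∈ D.N) (hxu : Commute x u) :
    ∃ (i : Fin 3) (a : V), act m a = a ∧ x = D.pt a * u ^ (i : ℕ) := by
  obtain ⟨n, hn, hxn⟩ := D.exists_mon hx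
  have e : comp m n = comp n m :=
    D.acts_unique (D.acts_mul hu hxn) (hxu.symm.eq ▸ D.acts_mul hxn hu)
  obtain ⟨i, hi⟩ := ev_comm m hm (D.mon_cube hu hu3) hm1 n hn (hev x n hn hxn) e
  have hui : Acts D.pt (u ^ (i : ℕ)) n := by
    rw [hi]
    fin_cases i
    · simpa [pw] using D.acts_one
    · simpa [pw] using hu
    · simpa [pw, pow_two] using D.acts_mul hu hu
  obtain ⟨a, ha⟩ : x * (u ^ (i : ℕ))⁻¹ ∈ D.J := D.cent _ fun v => by
    have hsur : Function.Surjective (act n) := Finite.injective_iff_surjective.1 fun p q hpq =>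
      D.pt_inj ((MulAut.conj x).injective (by
        show x * D.pt p * x⁻¹ = x * D.pt q * x⁻¹
        rw [hxn, hxn, hpq]))
    obtain ⟨w, rfl⟩ := hsur v
    refine mul_inv_eq_iff_eq_mul.1 ?_
    conv_lhs => rw [← hui w]
    rw [← hxn w]
    group
  refine ⟨i, a, D.acts_fix hu ?_, by rw [ha, inv_mul_cancel_right]⟩
  rw [ha]
  exact hxu.symm.mul_right (((Commute.refl u).pow_right _).inv_right)

/-- the centraliser in the normaliser is a Sylow subgroup of the centraliser of a cycle -/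
theorem exists_sylow_cycle [Finite H] (hev : D.IsEven) {u : H} {m : Mon} (hm : detX m = true)
    (hu : Acts D.pt u m) (hu3 : u ^ 3 = 1) (hm1 : m ≠ monOne) :
    ∃ P : Sylow 3 (centralizer ({u} : Set H)),
      (P : Subgroup (centralizer ({u} : Set H))) = D.N.subgroupOf (centralizer ({u} : Set H)) := by
  haveI : Fact (Nat.Prime 3) := ⟨Nat.prime_three⟩
  set C := centralizer ({u} : Set H)
  have hE : IsPGroup 3 (D.N.subgroupOf C) := by
    rintro ⟨x, hx⟩
    obtain ⟨i, a, ha, e⟩ := D.cent_cycle hev hm hu hu3 hm1 (mem_subgroupOf.1 hx)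
      (mem_centralizer_singleton_iff.1 x.2)
    refine ⟨1, Subtype.ext (Subtype.ext ?_)⟩
    show (x : H) ^ 3 ^ 1 = 1
    rw [pow_one, e, ((D.commute_of_fix hu ha).symm.pow_right _).mul_pow, D.pt_cube, one_mul,
      ← pow_mul, mul_comm, pow_mul, hu3, one_pow]
  obtain ⟨P, hP⟩ := hE.exists_le_sylow
  refine ⟨P, le_antisymm ?_ hP⟩
  haveI := P.isPGroup'.isNilpotent
  by_contra hne
  have hlt : (D.N.subgroupOf C).subgroupOf (P : Subgroup C) < ⊤ := lt_top_iff_ne_top.2 fun h =>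
    hne (Subgroup.subgroupOf_eq_top.1 h)
  obtain ⟨y, hy, hy'⟩ := SetLike.exists_of_lt (Group.normalizerCondition_of_isNilpotent _ hlt)
  refine hy' (mem_subgroupOf.2 (mem_subgroupOf.2 ?_))
  obtain ⟨f, hf0, -, hmf, hline, -⟩ := fix_line m hm (D.mon_cube hu hu3) hm1
  set Y : H := ((y : C) : H)
  have hYu : Commute Y u := mem_centralizer_singleton_iff.1 (y : C).2
  have hdC : D.pt f ∈ C :=
    mem_centralizer_singleton_iff.2 (D.commute_of_fix hu hmf).symm.eq
  have hdP : (⟨D.pt f, hdC⟩ : C) ∈ (P : Subgroup C) := hP (mem_subgroupOf.2 (D.J_le_N (D.pt_mem f)))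
  have hN1 : Y * D.pt f * Y⁻¹ ∈ D.N :=
    mem_subgroupOf.1 (mem_subgroupOf.1 ((mem_normalizer_iff.1 hy ⟨⟨D.pt f, hdC⟩, hdP⟩).1
      (mem_subgroupOf.2 (mem_subgroupOf.2 (D.J_le_N (D.pt_mem f))))))
  obtain ⟨b, hb⟩ := D.closed hev f hN1
  have hbu : act m b = b := D.acts_fix hu (by
    rw [hb]
    exact (hYu.symm.mul_right (D.commute_of_fix hu hmf)).mul_right hYu.symm.inv_right)
  rcases hline b hbu with rfl | rfl | rfl
  · rw [D.pt_zero] at hb
    exact absurd (conj_eq_one_iff.1 hb.symm) fun e => hf0 (D.pt_inj (e.trans D.pt_zero.symm))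
  · exact D.cent_le hev hf0 (mul_inv_eq_iff_eq_mul.1 hb.symm)
  · exfalso
    obtain ⟨k, hk⟩ := P.isPGroup' y
    have hYk : Y ^ 3 ^ k = 1 := congrArg (fun z : (P : Subgroup C) => ((z : C) : H)) hk
    rw [D.pt_neg] at hb
    have h2 : Commute (Y * Y) (D.pt f) := by
      refine mul_inv_eq_iff_eq_mul.1 ?_
      calc Y * Y * D.pt f * (Y * Y)⁻¹ = Y * (Y * D.pt f * Y⁻¹) * Y⁻¹ := by group
        _ = (Y * D.pt f * Y⁻¹)⁻¹ := by conv_lhs => rw [← hb]
                                       group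
        _ = D.pt f := by rw [← hb, inv_inv]
    obtain ⟨j, hj⟩ : Odd (3 ^ k) := Odd.pow (by decide)
    have hY : Y = ((Y * Y) ^ (j + 1)) := by
      rw [← pow_two, ← pow_mul, show 2 * (j + 1) = 3 ^ k + 1 by omega, pow_succ, hYk, one_mul]
    refine D.not_inverted hf0 ?_
    rw [hb]
    conv_rhs => rw [hY, ((h2.pow_left _).eq), mul_inv_cancel_right]

end Setup

end CfsgLib.Recog.McLThree.WeakY
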