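import Cfsg.Agent.Lib.Recog.McLThree.WeakY.Closed
import Cfsg.Agent.Lib.Block.Four

/-!
The transfer onto the cycles and the conclusion: the subgroup of order 27 is normal.
-/

set_option autoImplicit false
set_option linter.style.haveILetI false

namespace CfsgLib.Recog.McLThree.WeakY

open Subgroup CfsgLib.Block CfsgLib.Block.FourCube
open CfsgLib.Recog.AltNine (detX monOf)
open CfsgLib.Recog.SymNine (V Mon act comp monOne x0 e0 e1 e2 weight Acts Norms)

universe u

variable {H : Type u} [Group H] (D : Setup H)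

theorem sq_trivial : ∀ t : Multiplicative (ZMod 3), t * t = 1 → t = 1 := by decide +kernel

theorem rot_pow : ∀ m : Mon, ∃ i : Fin 3, rot m = rot cyc ^ (i : ℕ) := by decide +kernel

namespace Setup

/-- conjugate cycles in the normaliser are conjugate there -/
theorem fusion_cycle [Finite H] (hev : D.IsEven) {u g : H} {m : Mon} (hm : detX m = true)
    (hu : Acts D.pt u m) (hu3 : u ^ 3 = 1) (hm1 : m ≠ monOne) (hv : g * u * g⁻¹ ∈ D.N) :
    ∃ n ∈ D.N, n * u * n⁻¹ = g * u * g⁻¹ := by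
  haveI : Fact (Nat.Prime 3) := ⟨Nat.prime_three⟩
  set v := g * u * g⁻¹ with hvdef
  obtain ⟨m', hm', hvm⟩ := D.exists_mon hv
  have hv3 : v ^ 3 = 1 := by rw [hvdef, conj_pow, hu3]; group
  have hm'1 : m' ≠ monOne := by
    intro e
    obtain ⟨w, hw⟩ := D.mem_J_of_acts (e ▸ hvm)
    have huN : g⁻¹ * D.pt w * g⁻¹⁻¹ ∈ D.N := by
      rw [hw, show g⁻¹ * v * g⁻¹⁻¹ = u by rw [hvdef]; group]
      exact D.mem_N_of_acts hu
    obtain ⟨a, ha⟩ := D.closed hev w huN
    rw [hw, show g⁻¹ * v * g⁻¹⁻¹ = u by rw [hvdef]; group] at ha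
    exact hm1 (D.acts_unique hu (ha ▸ D.acts_pt a))
  set C := centralizer ({u} : Set H)
  set C' := centralizer ({v} : Set H)
  obtain ⟨P, hP⟩ := D.exists_sylow_cycle hev hm hu hu3 hm1
  obtain ⟨Q, hQ⟩ := D.exists_sylow_cycle hev hm' hvm hv3 hm'1
  have hE : ((P : Subgroup C).map C.subtype).map (MulAut.conj g).toMonoidHom ≤ C' := by
    rintro _ ⟨x, ⟨y, -, rfl⟩, rfl⟩
    refine mem_centralizer_singleton_iff.2 ?_
    exact ((show Commute (y : H) u from mem_centralizer_singleton_iff.1 y.2).map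
      (MulAut.conj g).toMonoidHom).eq
  obtain ⟨R, hR⟩ := (((P.isPGroup'.map C.subtype).map
    (MulAut.conj g).toMonoidHom).comap_subtype (K := C')).exists_le_sylow
  obtain ⟨c, hc⟩ := MulAction.exists_smul_eq C' R Q
  obtain ⟨f, hf0, -, hmf, -⟩ := fix_line m hm (D.mon_cube hu hu3) hm1
  obtain ⟨f', hf'0, -, -, hline, -⟩ := fix_line m' hm' (D.mon_cube hvm hv3) hm'1
  have hfC : D.pt f ∈ C := mem_centralizer_singleton_iff.2 (D.commute_of_fix hu hmf).symm.eq
  set n := (c : H) * g with hn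
  have hnv : n * u * n⁻¹ = v := by
    calc n * u * n⁻¹ = (c : H) * v * (c : H)⁻¹ := by simp only [n, v]; group
      _ = v := by
          rw [(show Commute (c : H) v from mem_centralizer_singleton_iff.1 c.2).eq,
            mul_inv_cancel_right]
  have h1 : g * D.pt f * g⁻¹ ∈ ((P : Subgroup C).map C.subtype).map (MulAut.conj g).toMonoidHom :=
    by
    have h0 : (⟨D.pt f, hfC⟩ : C) ∈ (P : Subgroup C) :=
      hP.ge (mem_subgroupOf.2 (D.J_le_N (D.pt_mem f)))
    exact ⟨D.pt f, ⟨⟨D.pt f, hfC⟩, h0, rfl⟩, rfl⟩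
  have h2 : c * ⟨g * D.pt f * g⁻¹, hE h1⟩ * c⁻¹ ∈ (Q : Subgroup C') := by
    rw [← hc, Sylow.coe_subgroup_smul]
    exact ⟨_, hR (mem_subgroupOf.2 h1), rfl⟩
  have hnN : n * D.pt f * n⁻¹ ∈ D.N := by
    have := mem_subgroupOf.1 (hQ.le h2)
    rw [show n * D.pt f * n⁻¹ = ((c * ⟨g * D.pt f * g⁻¹, hE h1⟩ * c⁻¹ : C') : H) by
      show n * D.pt f * n⁻¹ = (c : H) * (g * D.pt f * g⁻¹) * (c : H)⁻¹
      simp only [n]; group]
    exact this
  obtain ⟨b, hb⟩ := D.closed hev f hnN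
  have hb0 : b ≠ 0 := by
    intro e
    rw [e, D.pt_zero] at hb
    exact hf0 (D.pt_inj ((conj_eq_one_iff.1 hb.symm).trans D.pt_zero.symm))
  refine ⟨n, D.mem_N_of_conj fun a => D.cent_le hev hb0 ?_, hnv⟩
  rw [hb]
  exact (D.commute_pt a f).map (MulAut.conj n).toMonoidHom

/-- a three-group containing `J` has index prime to three -/
theorem coprime_index [Finite H] : ¬ 3 ∣ D.N.index := by
  haveI : Fact (Nat.Prime 3) := ⟨Nat.prime_three⟩
  obtain ⟨P, hP⟩ := (IsPGroup.of_card (n := 3) (by rw [D.card_J]; norm_num) :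
    IsPGroup 3 D.J).exists_le_sylow
  exact fun h => P.not_dvd_index (h.trans (index_dvd_of_le (D.three_group_le_N P.isPGroup' hP)))

theorem norms_of_even [Finite H] (hev : D.IsEven) (g : H) : Norms D.pt g := by
  classical
  haveI : Fact (Nat.Prime 3) := ⟨Nat.prime_three⟩
  have hrot : ∀ x : D.N, (D.mon x).1.val < 3 := fun x =>
    hev x _ (D.mon_spec x).1 (D.mon_spec x).2
  let φ : D.N →* Multiplicative (ZMod 3) :=
    MonoidHom.mk' (fun x => rot (D.mon x)) fun x y => by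
      show rot (D.mon (x * y)) = _
      rw [D.mon_mul, rot_comp _ _ (hrot x) (hrot y)]
  have hcyc : D.Lifted cyc := ⟨by decide +kernel, D.lift_cyc⟩
  have hcyc1 : cyc ≠ monOne := by decide
  set u := D.kk cyc with hudef
  have hua : Acts D.pt u cyc := (D.kk_spec hcyc).1
  have huN : u ∈ D.N := D.mem_N_of_acts hua
  have hu3 : u ^ 3 = 1 := by
    rw [pow_succ', pow_two, hudef, ← D.kk_mul hcyc hcyc, ← D.kk_mul hcyc (Lifted.comp D hcyc hcyc),
      show comp cyc (comp cyc cyc) = monOne by decide +kernel, D.kk_one]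
  have hcube : ∀ x : H, x ^ 3 = 1 → x * x * x = 1 := fun x hx => by
    rw [← hx, pow_succ, pow_two]
  let ψ : H →* Multiplicative (ZMod 3) := MonoidHom.transfer φ
  have hψu : ψ u = rot cyc ^ D.N.index := by
    refine FourCube.transfer_three φ (hcube u hu3) _ (FourCube.a_cube _) fun g h => ?_
    obtain ⟨n, hn, e⟩ := D.fusion_cycle (g := g⁻¹) hev hcyc.1 hua hu3 hcyc1 (by rwa [inv_inv])
    rw [inv_inv] at e
    have e' : (⟨g⁻¹ * u * g, h⟩ : D.N) = ⟨n, hn⟩ * ⟨u, huN⟩ * ⟨n, hn⟩⁻¹ := Subtype.ext e.symm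
    rw [e', map_mul, map_mul, map_inv, mul_comm (φ ⟨n, hn⟩), mul_inv_cancel_right]
    show rot (D.mon ⟨u, huN⟩) = rot cyc
    rw [D.mon_eq (g := ⟨u, huN⟩) hua]
  have hψJ : ∀ a, ψ (D.pt a) = 1 := fun a => by
    rw [← one_pow (M := Multiplicative (ZMod 3)) D.N.index]
    refine FourCube.transfer_three φ (hcube _ (D.pt_cube a)) _ (by simp) fun g h => ?_
    obtain ⟨b, hb⟩ := D.closed hev (g := g⁻¹) a (by rwa [inv_inv])
    rw [inv_inv] at hb
    show rot (D.mon ⟨g⁻¹ * D.pt a * g, h⟩) = 1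
    rw [D.mon_eq (g := ⟨g⁻¹ * D.pt a * g, h⟩) (m := monOne) (by
      show Acts D.pt (g⁻¹ * D.pt a * g) monOne
      rw [← hb]; exact D.acts_pt b)]
    exact rot_facts.1
  have hψu1 : ψ u ≠ 1 := by
    rw [hψu]
    intro h
    have h3 : (3 : ℕ) = orderOf (rot cyc) :=
      (orderOf_eq_prime (by rw [pow_succ, pow_two]; exact FourCube.a_cube _) rot_facts.2.1).symm
    exact D.coprime_index (h3 ▸ orderOf_dvd_of_pow_eq_one h)
  set K := ψ.ker
  -- the part of the normaliser in the kernel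
  have hdiag : ∀ {x : H} {m : Mon}, detX m = true → Acts D.pt x m → m.1 = 0 → ψ x = 1 := by
    intro x m hm hx h0
    have hl : D.Lifted m := ⟨hm, x, hx⟩
    have hk := (D.kk_spec hl).1
    have hsq : D.kk m * D.kk m = 1 := by
      rw [← D.kk_mul hl hl, show comp m m = monOne from
        (by decide +kernel : ∀ m : Mon, detX m = true → m.1 = 0 → comp m m = monOne) m hm h0,
        D.kk_one]
    obtain ⟨a, ha⟩ : x * (D.kk m)⁻¹ ∈ D.J := D.cent _ fun v => by
      have hkk : (D.kk m)⁻¹ = D.kk m := inv_eq_of_mul_eq_one_right hsq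
      refine mul_inv_eq_iff_eq_mul.1 ?_
      rw [hkk, D.acts_mul hx hk v,
        show comp m m = monOne from
          (by decide +kernel : ∀ m : Mon, detX m = true → m.1 = 0 → comp m m = monOne) m hm h0,
        CfsgLib.Recog.SymNine.act_one]
    have hkx : ψ (D.kk m) = 1 :=
      sq_trivial _
        (by rw [← map_mul, hsq, map_one])
    rw [show x = D.pt a * D.kk m by rw [ha, inv_mul_cancel_right], map_mul, hψJ, hkx, one_mul]
  have hker : ∀ {x : H} {m : Mon}, detX m = true → Acts D.pt x m → x ∈ K → m.1 = 0 := by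
    intro x m hm hx hxK
    have hlt := hev x m hm hx
    refine rot_facts.2.2.1 m hlt ?_
    obtain ⟨i, hi⟩ := rot_pow m
    have hxN := D.mem_N_of_acts hx
    obtain ⟨k, hk, hxu⟩ := D.exists_mon (D.N.mul_mem hxN (D.N.inv_mem (D.N.pow_mem huN (i : ℕ))))
    have hφ : φ (⟨x, hxN⟩ * (⟨u, huN⟩ ^ (i : ℕ))⁻¹) = 1 := by
      rw [map_mul, map_inv, map_pow, mul_inv_eq_one]
      show rot (D.mon ⟨x, hxN⟩) = rot (D.mon ⟨u, huN⟩) ^ (i : ℕ)
      rw [D.mon_eq (g := ⟨x, hxN⟩) hx, D.mon_eq (g := ⟨u, huN⟩) hua, hi]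
    have hk0 : k.1 = 0 := by
      refine rot_facts.2.2.1 k (hev _ k hk hxu) ?_
      rw [← hφ]
      show _ = rot (D.mon _)
      rw [D.mon_eq hxu]
    have h1 := hdiag hk hxu hk0
    rw [map_mul, map_inv, MonoidHom.mem_ker.1 hxK, one_mul, inv_eq_one, map_pow] at h1
    rw [hi]
    have hord : orderOf (ψ u) = 3 :=
      orderOf_eq_prime (by rw [pow_succ, pow_two]; exact FourCube.a_cube _) hψu1
    have := orderOf_dvd_of_pow_eq_one h1
    rw [hord] at this
    rw [show (i : ℕ) = 0 by omega, pow_zero]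
  -- the model of order 108
  have hlift : ∀ {a : ThreeCube.Tri}, ThreeCube.Evn a → D.Lifted (monOf (⟨a, 1⟩ : Big)) :=
    fun {a} ha => D.lifted_ev (CfsgLib.Recog.AltNine.detX_monOf a 1 (mdl_facts a ha).1)
      (by rw [(mdl_facts a ha).2]; decide)
  have hmem : ∀ {a : ThreeCube.Tri} (ha : ThreeCube.Evn a), D.psi ⟨a, 1⟩ ∈ D.N ⊓ K := by
    intro a ha
    exact ⟨D.mem_N_of_acts (D.psi_acts (hlift ha)),
      MonoidHom.mem_ker.2 (hdiag (hlift ha).1 (D.psi_acts (hlift ha)) (mdl_facts a ha).2)⟩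
  let f : ThreeCube.Mdl →* D.N.subgroupOf K :=
    MonoidHom.mk' (fun a => ⟨⟨D.psi ⟨a, 1⟩, (hmem a.2).2⟩, mem_subgroupOf.2 (hmem a.2).1⟩)
      (fun a b => Subtype.ext (Subtype.ext (by
        show D.psi ⟨((a * b : ThreeCube.Mdl) : ThreeCube.Tri), 1⟩ = D.psi ⟨a, 1⟩ * D.psi ⟨b, 1⟩
        rw [← D.psi_mul (mdl_facts _ a.2).1 (mdl_facts _ b.2).1 (hlift a.2) (hlift b.2)]
        refine congrArg D.psi (SemidirectProduct.ext ?_ (by simp))
        show ((a : ThreeCube.Tri) * b) = (a : ThreeCube.Tri) * permTri 1 (b : ThreeCube.Tri)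
        rw [permTri_one])))
  have hf : Function.Bijective f := by
    refine ⟨fun a b e => Subtype.ext ?_, fun x => ?_⟩
    · have := D.psi_inj (mdl_facts _ a.2).1 (mdl_facts _ b.2).1 (hlift a.2) (hlift b.2)
        (congrArg (fun y : D.N.subgroupOf K => ((y : K) : H)) e)
      exact congrArg SemidirectProduct.left this
    · obtain ⟨⟨a, p⟩, hb, lb, e⟩ := D.psi_surj (mem_subgroupOf.1 x.2)
      have h0 := hker lb.1 (D.psi_acts lb) (e ▸ (x : K).2)
      obtain ⟨rfl, ha⟩ := mdl_surj a p hb h0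
      exact ⟨⟨a, ha⟩, Subtype.ext (Subtype.ext e)⟩
  have hJK : D.J ≤ K := by rintro _ ⟨a, rfl⟩; exact MonoidHom.mem_ker.2 (hψJ a)
  have htop : D.N.subgroupOf K = ⊤ := by
    refine ThreeCube.eq_top (D.N.subgroupOf K) (D.J.subgroupOf K) ⟨MulEquiv.ofBijective f hf⟩
      (fun x hx => mem_subgroupOf.2 (D.J_le_N (mem_subgroupOf.1 hx))) ?_ ?_ ?_
    · rw [Nat.card_congr (subgroupOfEquivOfLe hJK).toEquiv, D.card_J]
    · refine le_antisymm (fun y hy => mem_subgroupOf.2 (D.mem_N_of_conj fun a => D.J_le_N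
        (mem_subgroupOf.1 ((mem_normalizer_iff.1 hy ⟨D.pt a, hJK (D.pt_mem a)⟩).1
          (mem_subgroupOf.2 (D.pt_mem a)))))) fun y hy => mem_normalizer_iff.2 fun x => ?_
      simp only [mem_subgroupOf, Subgroup.coe_mul, Subgroup.coe_inv]
      exact mem_normalizer_iff.1 (mem_subgroupOf.1 hy) _
    · intro t ht ht1 y hy
      obtain ⟨a, ha⟩ := mem_subgroupOf.1 ht
      refine mem_subgroupOf.2 (D.cent_le hev (v := a) (fun e => ht1 (Subtype.ext ?_)) ?_)
      · rw [← ha, e, D.pt_zero]; rfl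
      · rw [ha]
        exact congrArg Subtype.val (mem_centralizer_singleton_iff.1 hy)
  have hKN : K ≤ D.N := subgroupOf_eq_top.1 htop
  exact D.mem_N_iff.1 (D.mem_N_of_conj fun a =>
    hKN ((MonoidHom.normal_ker ψ).conj_mem _ (hJK (D.pt_mem a)) g))

/-- Every element normalises the subgroup of order 27. -/
theorem norms [Finite H] (g : H) : Norms D.pt g := by
  by_cases h : D.IsEven
  · exact D.norms_of_even h g
  · simp only [IsEven, not_forall] at h
    obtain ⟨n, m, hm, hn, hlt⟩ := h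
    exact D.norms_of_odd hm hn (not_lt.1 hlt) g

end Setup

end CfsgLib.Recog.McLThree.WeakY
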