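import Cfsg.Agent.Lib.Recog.McLThree.WeakY.Mono
import Cfsg.Agent.Lib.Recog.McLThree.WeakY.Transfer
import Cfsg.Agent.Lib.Comp.Signalizer

/-!
The centraliser of `y` normalises `J` with the core condition only at the centre.
-/

set_option autoImplicit false
set_option linter.style.haveILetI false
set_option linter.unusedSectionVars false
set_option maxRecDepth 4000
set_option synthInstance.maxSize 4000

namespace CfsgLib.Recog.McLThree

open Subgroup
open CfsgLib.Recog.SymNine (V Mon act comp monOne weight Norms Acts)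
open CfsgLib.Recog.AltNine (detX)
open WeakY (dia cyc)

/-- evaluation of a functional -/
def dot4 (f p : W4) : ZMod 3 :=
  f.1 * p.1 + f.2.1 * p.2.1 + f.2.2.1 * p.2.2.1 + f.2.2.2 * p.2.2.2

theorem plane_point : ∀ f : W4, ∃ p : W4, Sg p ∧ dot4 f p = 0 := by decide +kernel

theorem z3_cases : ∀ d : ZMod 3, d = 0 ∨ d = 1 ∨ d = -1 := by decide

theorem w4_neg_proj : ∀ q : W4, -q + (0, q.2) = (-q.1).val • ((1, 0) : W4) := by decide +kernel

theorem w4_split : ∀ (k : ZMod 3) (w : V), ((k, w) : W4) = (0, w) + k.val • ((1, 0) : W4) := by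
  decide +kernel

theorem w4_split' : ∀ p : W4, p = p.1.val • ((1, 0) : W4) + (0, p.2) := by decide +kernel

theorem w4_shift : ∀ (k k' : ZMod 3) (v : V),
    ((k, v) : W4) = (k - k').val • ((1, 0) : W4) + (k', v) := by
  decide +kernel

theorem sg_base : Sg (1, (CfsgLib.Recog.SymNine.e1 : V)) ∧ Sg (0, (CfsgLib.Recog.SymNine.x0 : V)) := by
  decide +kernel

theorem not_multiple : ∀ p : W4, Sg p → ∀ n : Fin 3, (n : ℕ) • p ≠ ((1, 0) : W4) := by decide +kernel

variable {G : Type*} [Group G] [Finite G] {h : Hyp G}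

namespace Coords

variable (c : Coords h)
include c

/-- `J` normalises no nontrivial subgroup of order prime to three. -/
theorem signalizer {R : Subgroup G} (h3 : ¬ 3 ∣ Nat.card R)
    (hn : ∀ u ∈ h.J, ∀ r ∈ R, u * r * u⁻¹ ∈ R) : R = ⊥ := by
  haveI : Fact (Nat.Prime 3) := ⟨by norm_num⟩
  have hJe : Cfsg.IsElementaryAbelian 3 h.J :=
    ⟨⟨⟨fun a b => Subtype.ext (h.J_comm a a.2 b b.2)⟩⟩, h.J_exp⟩
  have hne : h.J ≠ ⊥ := fun e => by
    have := h.J_card
    rw [e, card_bot] at this
    omega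
  have hJN : h.J ≤ normalizer (R : Set G) := fun u hu => mem_normalizer_of_forward (hn u hu)
  rw [CfsgLib.Comp.eq_iSup_centralizer_hyperplane hJe hne h3 hJN]
  refine iSup_eq_bot.2 fun ⟨B, hBJ, hB⟩ => ?_
  have hBc : Nat.card B = 27 := by
    have h1 := Subgroup.card_mul_index (B.subgroupOf h.J)
    rw [Nat.card_congr (subgroupOfEquivOfLe hBJ).toEquiv, h.J_card,
      show (B.subgroupOf h.J).index = 3 from hB] at h1
    omega
  obtain ⟨x, hxJ, hxB⟩ : ∃ x ∈ h.J, x ∉ B := by
    by_contra hc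
    push Not at hc
    have := Subgroup.card_le_of_le (show h.J ≤ B from hc)
    rw [hBc, h.J_card] at this
    omega
  have hdec : ∀ u ∈ h.J, ∃ i : ZMod 3, u * (x ^ i.val)⁻¹ ∈ B := by
    let F : B × ZMod 3 → h.J := fun t => ⟨(t.1 : G) * x ^ t.2.val, mul_mem (hBJ t.1.2) (pow_mem hxJ _)⟩
    have hF : Function.Bijective F := by
      refine (Nat.bijective_iff_injective_and_card F).2 ⟨?_, by
        rw [Nat.card_prod, hBc, Nat.card_zmod, h.J_card]⟩
      rintro ⟨a, i⟩ ⟨a', i'⟩ e
      have e' : (a : G) * x ^ i.val = (a' : G) * x ^ i'.val := congrArg Subtype.val e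
      have hmem : x ^ (i - i').val ∈ B := by
        have e2 : x ^ i.val = (a : G)⁻¹ * (a' : G) * x ^ i'.val := by
          rw [mul_assoc, ← e', inv_mul_cancel_left]
        rw [show i = i - i' + i' by ring, pow_val_add (h.J_exp x hxJ), mul_left_inj] at e2
        rw [e2]
        exact mul_mem (inv_mem a.2) a'.2
      have h0 : i - i' = 0 := by
        by_contra hne
        refine hxB ?_
        rcases z3_cases (i - i') with e3 | e3 | e3
        · exact absurd e3 hne
        · rw [e3, ZMod.val_one, pow_one] at hmem; exact hmem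
        · rw [e3, pow_val_neg_one (h.J_exp x hxJ)] at hmem; exact inv_mem_iff.1 hmem
      rw [sub_eq_zero.1 h0] at e' ⊢
      exact Prod.ext (Subtype.ext (mul_right_cancel e')) rfl
    intro u hu
    obtain ⟨⟨a, i⟩, e⟩ := hF.2 ⟨u, hu⟩
    refine ⟨i, ?_⟩
    rw [show u = (a : G) * x ^ i.val from (congrArg Subtype.val e).symm, mul_inv_cancel_right]
    exact a.2
  choose fc hfc using fun p : W4 => hdec _ (c.p4_mem p)
  set f : W4 := (fc (1, 0), (fc (0, (1, 0, 0)), fc (0, (0, 1, 0)), fc (0, (0, 0, 1)))) with hf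
  have hgen : ∀ p : W4, c.p4 p * (x ^ (dot4 f p).val)⁻¹ ∈ B := by
    intro p
    let hom : W4 → G := fun p => c.p4 p * (x ^ (dot4 f p).val)⁻¹
    have hadd : ∀ a b, hom (a + b) = hom a * hom b := fun a b => by
      have hd : dot4 f (a + b) = dot4 f b + dot4 f a := by
        simp only [dot4, Prod.fst_add, Prod.snd_add]; ring
      have hcm : c.p4 b * (x ^ (dot4 f a).val)⁻¹ = (x ^ (dot4 f a).val)⁻¹ * c.p4 b :=
        h.J_comm _ (c.p4_mem b) _ (inv_mem (pow_mem hxJ _))
      simp only [hom]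
      rw [hd, c.p4_add, pow_val_add (h.J_exp x hxJ), mul_inv_rev, ← mul_assoc, mul_assoc (c.p4 a),
        hcm, ← mul_assoc, mul_assoc _ (c.p4 b)]
    have hnsmul : ∀ (n : ℕ) (a : W4), hom (n • a) = hom a ^ n := fun n a => by
      induction n with
      | zero => simp [hom, c.p4_zero, dot4]
      | succ n ih => rw [succ_nsmul, hadd, ih, pow_succ]
    show hom p ∈ B
    rw [← lin4_id p]
    simp only [lin4, hadd, hnsmul]
    refine mul_mem (mul_mem (mul_mem (pow_mem ?_ _) (pow_mem ?_ _)) (pow_mem ?_ _)) (pow_mem ?_ _)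
    all_goals simp only [hom, dot4, mul_one, mul_zero, add_zero, zero_add, hf, Prod.fst_zero, Prod.snd_zero]
    all_goals exact hfc _
  obtain ⟨p, hp, hp0⟩ := plane_point f
  obtain ⟨g, hg⟩ := (c.isPt_iff p).2 hp
  have hsB : c.p4 p ∈ B := by simpa [hp0] using hgen p
  obtain ⟨n, hn', e⟩ := h.fusion_J h.z_mem_J (hg ▸ c.p4_mem p : g * h.z * g⁻¹ ∈ h.J)
  rw [hg] at e
  set R1 := R ⊓ centralizer (B : Set G)
  have hz : R1.map (MulAut.conj n⁻¹).toMonoidHom = ⊥ := by
    refine h.signalizer_z ?_ ?_ ?_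
    · rintro _ ⟨r, hr, rfl⟩
      refine h.mem_CZ.2 ?_
      have h1 : c.p4 p * r = r * c.p4 p := mem_centralizer_iff.1 hr.2 _ hsB
      rw [← e] at h1
      simp only [MulEquiv.coe_toMonoidHom, MulAut.conj_apply, inv_inv]
      calc n⁻¹ * r * n * h.z = n⁻¹ * (r * (n * h.z * n⁻¹)) * n := by group
        _ = h.z * (n⁻¹ * r * n) := by rw [← h1]; group
    · rw [card_map_of_injective (MulAut.conj n⁻¹).injective]
      exact fun hd => h3 (hd.trans (Subgroup.card_dvd_of_le inf_le_left))
    · rintro u hu _ ⟨r, hr, rfl⟩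
      have hv := h.conj_J hn' hu
      refine ⟨n * u * n⁻¹ * r * (n * u * n⁻¹)⁻¹, ⟨hn _ hv r hr.1, ?_⟩, ?_⟩
      · refine mem_centralizer_iff.2 fun b hb => ?_
        set v := n * u * n⁻¹
        have hb' : b * r = r * b := mem_centralizer_iff.1 hr.2 b hb
        have hcb : Commute v b := h.J_comm v hv b (hBJ hb)
        exact (((hcb.symm).mul_right (show Commute b r from hb')).mul_right hcb.symm.inv_right).eq
      · simp only [MulEquiv.coe_toMonoidHom, MulAut.conj_apply]
        group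
  exact (map_eq_bot_iff_of_injective _ (MulAut.conj n⁻¹).injective).1 hz

/-- The centraliser of `y` normalises `J`. -/
theorem cent_y_le_weak : centralizer ({c.y} : Set G) ≤ normalizer (h.J : Set G) := by
  classical
  haveI : Fact (Nat.Prime 3) := ⟨by norm_num⟩
  set C := centralizer ({c.y} : Set G) with hC
  have hyC : zpowers c.y ≤ C := zpowers_le.2 (mem_centralizer_singleton_iff.2 rfl)
  set Yn := (zpowers c.y).subgroupOf C
  have hcen : Yn ≤ center C := fun u hu => mem_center_iff.2 fun g => Subtype.ext (by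
    obtain ⟨k, hk⟩ := mem_zpowers_iff.1 (mem_subgroupOf.1 hu)
    show (g : G) * (u : G) = (u : G) * g
    rw [← hk]
    exact ((show Commute (g : G) c.y from mem_centralizer_singleton_iff.1 g.2).zpow_right k).eq)
  haveI : Yn.Normal := ⟨fun u hu g => by
    rw [mem_center_iff.1 (hcen hu) g, mul_inv_cancel_right]; exact hu⟩
  have hYc : Nat.card Yn = 3 := by
    rw [Nat.card_congr (subgroupOfEquivOfLe hyC).toEquiv, Nat.card_zpowers,
      orderOf_eq_prime c.y_cube c.y_ne]
  have hinC : ∀ {g : G}, g * c.y * g⁻¹ = c.y → g ∈ C := fun e =>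
    mem_centralizer_singleton_iff.2 (mul_inv_eq_iff_eq_mul.1 e)
  have hpC : ∀ v : V, c.p4 (0, v) ∈ C := fun v =>
    mem_centralizer_singleton_iff.2 (h.J_comm _ (c.p4_mem _) _ c.y_mem_J)
  let π : C →* C ⧸ Yn := QuotientGroup.mk' Yn
  let pt : V → C ⧸ Yn := fun v => π ⟨c.p4 (0, v), hpC v⟩
  have hπeq : ∀ (g : C) (q : W4), (g : G) = c.p4 q → π g = pt q.2 := by
    intro g q e
    refine (QuotientGroup.eq.2 (mem_subgroupOf.2 ?_))
    show (g : G)⁻¹ * c.p4 (0, q.2) ∈ zpowers c.y
    rw [e, ← c.p4_neg, ← c.p4_add,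
      w4_neg_proj q, c.p4_nsmul, c.p4_y]
    exact pow_mem (mem_zpowers _) _
  have hπinj : ∀ (g : C) (w : V), π g = pt w → ∃ k : ZMod 3, (g : G) = c.p4 (k, w) := by
    intro g w e
    obtain ⟨i, hi⟩ := mem_zpowers_iff.1 (mem_subgroupOf.1 (QuotientGroup.eq.1 e.symm))
    have hi' : c.y ^ i = (c.p4 (0, w))⁻¹ * (g : G) := hi
    refine ⟨(i : ZMod 3), ?_⟩
    rw [w4_split (i : ZMod 3) w, c.p4_add, c.p4_nsmul, c.p4_y, ← zpow_natCast c.y,
      ZMod.val_intCast]
    have : c.y ^ (i % ((3 : ℕ) : ℤ)) = c.y ^ i := by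
      conv_rhs => rw [← zpow_mod_orderOf, orderOf_eq_prime c.y_cube c.y_ne]
    rw [this, hi', mul_inv_cancel_left]
  have hpinj : Function.Injective pt := fun v w e => by
    obtain ⟨k, hk⟩ := hπinj ⟨c.p4 (0, v), hpC v⟩ w e
    exact congrArg Prod.snd (c.p4_inj hk)
  have hconjJ : ∀ (g : C), (∀ v, ∃ w, π g * pt v * (π g)⁻¹ = pt w) →
      ∀ v, ∃ q : W4, (g : G) * c.p4 (0, v) * (g : G)⁻¹ = c.p4 q ∧
        π g * pt v * (π g)⁻¹ = pt q.2 := by
    intro g hg v
    obtain ⟨w, hw⟩ := hg v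
    obtain ⟨k, hk⟩ := hπinj (g * ⟨c.p4 (0, v), hpC v⟩ * g⁻¹) w (by rw [map_mul, map_mul, map_inv]; exact hw)
    exact ⟨(k, w), hk, hw⟩
  have hnormJ : ∀ (g : C), (∀ v, ∃ w, π g * pt v * (π g)⁻¹ = pt w) →
      (g : G) ∈ normalizer (h.J : Set G) := by
    intro g hg
    refine mem_normalizer_of_forward fun u hu => ?_
    obtain ⟨p, rfl⟩ := c.p4_surj hu
    obtain ⟨q, hq, -⟩ := hconjJ g hg p.2
    rw [w4_split' p, c.p4_add,
      c.p4_nsmul, c.p4_y, ← conj_mul, ← conj_pow,
      mul_inv_eq_iff_eq_mul.2 (mem_centralizer_singleton_iff.1 g.2 : (g : G) * c.y = c.y * g), hq]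
    exact mul_mem (pow_mem c.y_mem_J _) (c.p4_mem q)
  have hacts : ∀ (g : C) (m : Mon), (∀ p, (g : G) * c.p4 p * (g : G)⁻¹ = c.p4 (p.1, act m p.2)) →
      Acts pt (π g) m := fun g m hm v => by
    show π g * π ⟨_, _⟩ * (π g)⁻¹ = π ⟨_, _⟩
    rw [← map_inv, ← map_mul, ← map_mul]
    exact congrArg π (Subtype.ext (hm (0, v)))
  have hrot : ∀ (g : C), (g : G) ∈ normalizer (h.J : Set G) →
      ∃ m, detX m = true ∧ Acts pt (π g) m := fun g hg => by
    obtain ⟨m, hm, hmp⟩ :=
      c.exists_rotation hg (mul_inv_eq_iff_eq_mul.2 (mem_centralizer_singleton_iff.1 g.2))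
    exact ⟨m, hm, hacts g m hmp⟩
  have hlocal : ∀ (v : V) (k : ZMod 3), Sg (k, v) → ∀ g, Commute g (pt v) → Norms pt g := by
    intro v k hs g hc
    obtain ⟨g0, rfl⟩ := QuotientGroup.mk'_surjective Yn g
    obtain ⟨k', hk'⟩ := hπinj (g0 * ⟨c.p4 (0, v), hpC v⟩ * g0⁻¹) v (by
      rw [map_mul, map_mul, map_inv]
      exact mul_inv_eq_iff_eq_mul.2 hc.eq)
    have hy : Commute (g0 : G) c.y := mem_centralizer_singleton_iff.1 g0.2
    have hN : (g0 : G) ∈ normalizer (h.J : Set G) := by
      refine h.normJ_of_conj_le fun u hu => ?_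
      obtain ⟨f, hf⟩ := (c.isPt_iff _).2 hs
      have hvy : Commute ((g0 : G) * u * (g0 : G)⁻¹) c.y := by
        have := (show Commute u c.y from h.J_comm u hu _ c.y_mem_J).map (MulAut.conj (g0 : G)).toMonoidHom
        simpa [hy.eq] using this
      have hve : Commute ((g0 : G) * u * (g0 : G)⁻¹) (c.p4 (k', v)) := by
        have := (show Commute u (c.p4 (0, v)) from h.J_comm u hu _ (c.p4_mem _)).map
          (MulAut.conj (g0 : G)).toMonoidHom
        simp only [MulEquiv.coe_toMonoidHom, MulAut.conj_apply] at this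
        have e : (g0 : G) * c.p4 (0, v) * (g0 : G)⁻¹ = c.p4 (k', v) := hk'
        rwa [e] at this
      refine h.cent_point_le c.y_mem_J (hf ▸ c.p4_mem _) ?_ ?_ hvy.eq
      · intro hy'
        rw [hf] at hy'
        obtain ⟨i, hi⟩ := mem_zpowers_iff.1 hy'
        have hcube : orderOf (c.p4 (k, v)) = 3 := orderOf_eq_prime (h.J_exp _ (c.p4_mem _)) fun e1 => by
          rw [e1, one_zpow] at hi
          exact c.y_ne hi.symm
        rw [← zpow_mod_orderOf, hcube, ← Int.toNat_of_nonneg (Int.emod_nonneg i (by norm_num :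
          ((3 : ℕ) : ℤ) ≠ 0)), zpow_natCast, ← c.p4_nsmul, ← c.p4_y] at hi
        exact not_multiple _ hs ⟨(i % ((3 : ℕ) : ℤ)).toNat, by omega⟩ (c.p4_inj hi)
      · rw [hf, w4_shift k k' v, c.p4_add, c.p4_nsmul,
          c.p4_y]
        exact ((hvy.pow_right _).mul_right hve).eq
    obtain ⟨m, -, hm⟩ := hrot g0 hN
    exact fun w => ⟨_, hm w⟩
  let D : WeakY.Setup (C ⧸ Yn) :=
    { pt := pt
      pt_add := fun v w => by
        show π ⟨_, _⟩ = π ⟨_, _⟩ * π ⟨_, _⟩
        rw [← map_mul]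
        refine congrArg π (Subtype.ext ?_)
        show c.p4 (0, v + w) = c.p4 (0, v) * c.p4 (0, w)
        rw [← c.p4_add]
        exact congrArg c.p4 (Prod.ext (add_zero _).symm rfl)
      pt_inj := hpinj
      cent := fun g hg => by
        obtain ⟨g0, rfl⟩ := QuotientGroup.mk'_surjective Yn g
        have hN : ∀ v, ∃ w, π g0 * pt v * (π g0)⁻¹ = pt w := fun v =>
          ⟨v, mul_inv_eq_iff_eq_mul.2 (hg v).eq⟩
        obtain ⟨m, -, hmp⟩ := c.exists_rotation (hnormJ g0 hN)
          (mul_inv_eq_iff_eq_mul.2 (mem_centralizer_singleton_iff.1 g0.2))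
        have hid : ∀ v, act m v = v := fun v => hpinj
          ((hacts g0 m hmp v).symm.trans (mul_inv_eq_iff_eq_mul.2 (hg v).eq))
        have hJ : (g0 : G) ∈ h.J := h.cent_J.le (mem_centralizer_iff.2 fun u hu => by
          obtain ⟨p, rfl⟩ := c.p4_surj hu
          have := hmp p
          rw [hid] at this
          exact (mul_inv_eq_iff_eq_mul.1 this).symm)
        obtain ⟨q, hq⟩ := c.p4_surj hJ
        exact ⟨q.2, (hπeq g0 q hq.symm).symm⟩
      det := fun g hg => by
        obtain ⟨g0, rfl⟩ := QuotientGroup.mk'_surjective Yn g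
        exact hrot g0 (hnormJ g0 hg)
      tau := ![π ⟨c.T, hinC c.T_y⟩, π ⟨c.U, hinC c.U_y⟩, π (⟨c.T, hinC c.T_y⟩ * ⟨c.U, hinC c.U_y⟩)]
      tau_sq := fun j => by
        have hT : (⟨c.T, hinC c.T_y⟩ : C) * ⟨c.T, hinC c.T_y⟩ = 1 := Subtype.ext c.T_sq
        have hU : (⟨c.U, hinC c.U_y⟩ : C) * ⟨c.U, hinC c.U_y⟩ = 1 := Subtype.ext c.U_sq
        have hTU : Commute (⟨c.U, hinC c.U_y⟩ : C) ⟨c.T, hinC c.T_y⟩ := Subtype.ext c.U_T
        fin_cases j
        · show π _ * π _ = 1
          rw [← map_mul, hT, map_one]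
        · show π _ * π _ = 1
          rw [← map_mul, hU, map_one]
        · show π _ * π _ = 1
          rw [← map_mul, ← mul_assoc, mul_assoc (⟨c.T, hinC c.T_y⟩ : C), hTU.eq, ← mul_assoc, hT,
            one_mul, hU, map_one]
      tau_comm := fun j k => by
        have hTU : Commute (⟨c.T, hinC c.T_y⟩ : C) ⟨c.U, hinC c.U_y⟩ := Subtype.ext c.U_T.symm
        have a := hTU.map π
        have b : Commute (π ⟨c.T, hinC c.T_y⟩) (π (⟨c.T, hinC c.T_y⟩ * ⟨c.U, hinC c.U_y⟩)) :=
          ((Commute.refl _).mul_right hTU).map π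
        have d : Commute (π ⟨c.U, hinC c.U_y⟩) (π (⟨c.T, hinC c.T_y⟩ * ⟨c.U, hinC c.U_y⟩)) :=
          (hTU.symm.mul_right (Commute.refl _)).map π
        fin_cases j <;> fin_cases k <;>
          first | exact Commute.refl _ | exact a | exact a.symm | exact b | exact b.symm | exact d | exact d.symm
      tau_acts := fun j => by
        fin_cases j
        · exact hacts _ _ c.T_act
        · exact hacts _ _ c.U_act
        · exact hacts _ _ c.TU_act
      lift_cyc := by
        have hM : c.Mel ∈ C := hinC c.M_y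
        refine ⟨π ⟨c.Mel * c.Mel, mul_mem hM hM⟩, hacts _ _ fun p => ?_⟩
        show c.Mel * c.Mel * c.p4 p * (c.Mel * c.Mel)⁻¹ = _
        rw [show c.Mel * c.Mel * c.p4 p * (c.Mel * c.Mel)⁻¹ =
          c.Mel * (c.Mel * c.p4 p * c.Mel⁻¹) * c.Mel⁻¹ by group, c.M_act, c.M_act,
          ← CfsgLib.Recog.SymNine.act_comp,
          show comp (comp cyc cyc) (comp cyc cyc) = cyc by decide +kernel]
      loc_one := hlocal _ 1 sg_base.1
      loc_three := hlocal _ 0 sg_base.2
      sig := fun R hR hinv => by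
        set T' := R.comap π with hT'
        have hYT : Yn ≤ T' := fun z hz => by
          show π z ∈ R
          rw [show π z = 1 from (QuotientGroup.eq_one_iff z).2 hz]; exact R.one_mem
        set Z' := Yn.subgroupOf T'
        haveI hZn : Z'.Normal := (inferInstance : Yn.Normal).subgroupOf T'
        have hZ'c : Nat.card Z' = 3 := by
          rw [Nat.card_congr (subgroupOfEquivOfLe hYT).toEquiv, hYc]
        have hidx : Z'.index = Nat.card R := by
          let f : T' →* R := (π.comp T'.subtype).codRestrict R fun t => t.2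
          have hs : Function.Surjective f := fun r => by
            obtain ⟨m, hm⟩ := QuotientGroup.mk'_surjective Yn (r : C ⧸ Yn)
            exact ⟨⟨m, show π m ∈ R from hm ▸ r.2⟩, Subtype.ext hm⟩
          have hk : f.ker = Z' := by
            ext t
            rw [MonoidHom.mem_ker, Subtype.ext_iff, mem_subgroupOf]
            exact QuotientGroup.eq_one_iff (t : C)
          rw [← hk, index_ker, MonoidHom.range_eq_top.2 hs, card_top]
        obtain ⟨K, hK⟩ := exists_left_complement'_of_coprime (N := Z')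
          (by rw [hZ'c, hidx]; exact hR.symm)
        have hKc : Nat.card K = Nat.card R := by rw [← hidx, hK.index_eq_card]
        have huniq : ∀ y : T', y ^ Nat.card R = 1 → y ∈ K := by
          intro y hy
          have hmem : y ∈ (⊤ : Subgroup T') := trivial
          rw [← hK.sup_eq_top] at hmem
          obtain ⟨a, ha, b, hb, hab⟩ := mem_sup_of_normal_right.1 hmem
          have hcomm : Commute a b := Subtype.ext
            (mem_center_iff.1 (hcen (mem_subgroupOf.1 hb)) (a : C))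
          have han : a ^ Nat.card R = 1 := by
            rw [← hKc]; exact congrArg Subtype.val (pow_card_eq_one' (x := (⟨a, ha⟩ : K)))
          have hbn : b ^ Nat.card R = 1 := by
            rw [← hy, ← hab, hcomm.mul_pow, han, one_mul]
          have hb3 : b ^ 3 = 1 := by
            rw [← hZ'c]; exact congrArg Subtype.val (pow_card_eq_one' (x := (⟨b, hb⟩ : Z')))
          have := pow_gcd_eq_one.2 ⟨hbn, hb3⟩
          rw [hR.gcd_eq_one, pow_one] at this
          rw [← hab, this, mul_one]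
          exact ha
        have hbot := c.signalizer (R := (K.map T'.subtype).map C.subtype) ?_ ?_
        · have hK1 : K = ⊥ := (map_eq_bot_iff_of_injective _ T'.subtype_injective).1
            ((map_eq_bot_iff_of_injective _ C.subtype_injective).1 hbot)
          rw [hK1, card_bot] at hKc
          exact Subgroup.card_eq_one.1 hKc.symm
        · rw [card_map_of_injective C.subtype_injective, card_map_of_injective T'.subtype_injective,
            hKc]
          exact Nat.prime_three.coprime_iff_not_dvd.1 hR.symm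
        · rintro u hu _ ⟨_, ⟨k, hk, rfl⟩, rfl⟩
          obtain ⟨q, rfl⟩ := c.p4_surj hu
          have huC : c.p4 q ∈ C := mem_centralizer_singleton_iff.2 (h.J_comm _ (c.p4_mem _) _ c.y_mem_J)
          have hy : (⟨c.p4 q, huC⟩ : C) * (k : C) * (⟨c.p4 q, huC⟩ : C)⁻¹ ∈ T' := by
            show π _ ∈ R
            rw [map_mul, map_mul, map_inv, hπeq ⟨c.p4 q, huC⟩ q rfl]
            exact hinv q.2 _ k.2
          refine ⟨_, ⟨⟨_, hy⟩, huniq _ (Subtype.ext ?_), rfl⟩, rfl⟩
          show (⟨c.p4 q, huC⟩ * (k : C) * (⟨c.p4 q, huC⟩ : C)⁻¹) ^ Nat.card R = 1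
          have hkn : (k : C) ^ Nat.card R = 1 := by
            rw [← hKc]
            exact congrArg Subtype.val (congrArg Subtype.val (pow_card_eq_one' (x := (⟨k, hk⟩ : K))))
          rw [conj_pow, hkn, mul_one, mul_inv_cancel] }
  intro g hg
  exact hnormJ ⟨g, hg⟩ fun v => D.norms (π ⟨g, hg⟩) v

end Coords

end CfsgLib.Recog.McLThree
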