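import Cfsg.Agent.Lib.Recog.McLThree.Final
import Cfsg.Agent.Lib.Recog.McLThree.WeakY.Quot

/-!
The criterion at `y` holds with the core condition only at the centre.
-/

set_option autoImplicit false

namespace CfsgLib.Recog.McLThree

universe u

theorem yCriterion : YCriterion.{u} := fun _ _ _ _ c => c.cent_y_le_weak

/-- The conclusion of the `3`-local characterisations from the packaged hypotheses alone. -/
theorem mcl_or_aut_weak (hrec : InvolutionCriterion.{u}) {G : Type u} [Group G] [Finite G]
    (h : Hyp G) : Nonempty (G ≃* Cfsg.Spor.McL) ∨ Nonempty (G ≃* MulAut Cfsg.Spor.McL) :=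
  mcl_or_aut_of_criterion hrec h (fun c => c.cent_y_le_weak) (fun _ _ c => c.cent_y_le_weak)

end CfsgLib.Recog.McLThree
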