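import Cfsg.Agent.Lib.Recog.McLThree.WeakY.Odd
import Mathlib.GroupTheory.Transfer

/-!
Only even permutations: the centralisers are local and the subgroup of order 27 is strongly closed.
-/

set_option autoImplicit false
set_option linter.style.haveILetI false

namespace CfsgLib.Recog.McLThree.WeakY

open Subgroup
open CfsgLib.Recog.AltNine (detX)
open CfsgLib.Recog.SymNine (V Mon act comp monOne x0 e0 e1 e2 weight Acts Norms)

universe u

variable {H : Type u} [Group H] (D : Setup H)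

namespace Setup

/-- only even permutations are induced -/
def IsEven : Prop := ∀ (g : H) (m : Mon), detX m = true → Acts D.pt g m → m.1.val < 3

theorem mon_cube {g : H} {m : Mon} (hg : Acts D.pt g m) (h3 : g ^ 3 = 1) :
    comp m (comp m m) = monOne := by
  refine D.acts_unique (g := g * (g * g)) (D.acts_mul hg (D.acts_mul hg hg)) ?_
  rw [show g * (g * g) = g ^ 3 by rw [pow_succ', pow_two], h3]
  exact D.acts_one

theorem J_comm {a b : H} (ha : a ∈ D.J) (hb : b ∈ D.J) : Commute a b := by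
  obtain ⟨v, rfl⟩ := ha
  obtain ⟨w, rfl⟩ := hb
  exact D.commute_pt v w

theorem J_cube {a : H} (ha : a ∈ D.J) : a ^ 3 = 1 := by
  obtain ⟨v, rfl⟩ := ha
  exact D.pt_cube v

/-- the only elementary abelian subgroup of order 27 in the normaliser -/
theorem abelian_eq [Finite H] (B : Subgroup H) (hB : B ≤ D.N)
    (hc : ∀ a ∈ B, ∀ b ∈ B, Commute a b) (h3 : ∀ a ∈ B, a ^ 3 = 1) (hcard : Nat.card B = 27) :
    B = D.J := by
  refine Subgroup.eq_of_le_of_card_ge (fun b hb => ?_) (by rw [hcard, D.card_J])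
  by_contra hbJ
  obtain ⟨m, hm, hbm⟩ := D.exists_mon (hB hb)
  have hm1 : m ≠ monOne := fun e => hbJ (D.mem_J_of_acts (e ▸ hbm))
  have hm3 := D.mon_cube hbm (h3 b hb)
  obtain ⟨f, -, -, -, hf, -⟩ := fix_line m hm hm3 hm1
  have hdec : ∀ a : B, ∃ i : Fin 3, ∃ k : Fin 3, (a : H) = D.pt (![0, f, -f] k) * b ^ (i : ℕ) := by
    intro a
    obtain ⟨n, hn, han⟩ := D.exists_mon (hB a.2)
    have e : comp m n = comp n m :=
      D.acts_unique (D.acts_mul hbm han) ((hc b hb a a.2).eq ▸ D.acts_mul han hbm)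
    obtain ⟨i, hi⟩ := cube_comm m hm hm3 hm1 n hn (D.mon_cube han (h3 a a.2)) e
    have hbi : Acts D.pt (b ^ (i : ℕ)) n := by
      rw [hi]
      fin_cases i
      · simpa [pw] using D.acts_one
      · simpa [pw] using hbm
      · simpa [pw, pow_two] using D.acts_mul hbm hbm
    obtain ⟨v, hv⟩ : (a : H) * (b ^ (i : ℕ))⁻¹ ∈ D.J := D.cent _ fun v => by
      have hsur : Function.Surjective (act n) := Finite.injective_iff_surjective.1 fun x y hxy =>
        D.pt_inj ((MulAut.conj (a : H)).injective (by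
          show (a : H) * D.pt x * (a : H)⁻¹ = (a : H) * D.pt y * (a : H)⁻¹
          rw [han, han, hxy]))
      obtain ⟨w, rfl⟩ := hsur v
      refine mul_inv_eq_iff_eq_mul.1 ?_
      conv_lhs => rw [← hbi w]
      rw [← han w]
      group
    have hcb : Commute b (D.pt v) := by
      rw [hv]
      exact (hc b hb a a.2).mul_right (((Commute.refl b).pow_right _).inv_right)
    have e' : (a : H) = D.pt v * b ^ (i : ℕ) := by rw [hv, inv_mul_cancel_right]
    rcases hf v (D.acts_fix hbm hcb) with h | h | h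
    · exact ⟨i, 0, by simpa [h] using e'⟩
    · exact ⟨i, 1, by simpa [h] using e'⟩
    · exact ⟨i, 2, by simpa [h] using e'⟩
  choose i k hik using hdec
  have hinj : Function.Injective fun a : B => (i a, k a) := fun a a' e => by
    refine Subtype.ext ?_
    rw [hik a, hik a']
    simp only [Prod.mk.injEq] at e
    rw [e.1, e.2]
  have := Nat.card_le_card_of_injective _ hinj
  rw [hcard, Nat.card_prod, Nat.card_fin] at this
  omega

/-- a conjugation carrying `J` into the normaliser normalises it -/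
theorem mem_N_of_conj [Finite H] {g : H} (hg : ∀ v, g * D.pt v * g⁻¹ ∈ D.N) : g ∈ D.N := by
  have hJ : D.J.map (MulAut.conj g).toMonoidHom = D.J := by
    refine D.abelian_eq _ ?_ ?_ ?_ (by
      rw [card_map_of_injective (MulAut.conj g).injective, D.card_J])
    · rintro _ ⟨a, ⟨v, rfl⟩, rfl⟩
      exact hg v
    · rintro _ ⟨a, ha, rfl⟩ _ ⟨b, hb, rfl⟩
      exact (D.J_comm ha hb).map (MulAut.conj g).toMonoidHom
    · rintro _ ⟨a, ha, rfl⟩
      rw [← map_pow, D.J_cube ha, map_one]
  refine D.mem_N_iff.2 fun v => ?_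
  obtain ⟨w, hw⟩ := hJ.le ⟨D.pt v, D.pt_mem v, rfl⟩
  exact ⟨w, hw.symm⟩

theorem three_group_le_N [Finite H] {P : Subgroup H} (hP : IsPGroup 3 P) (hJP : D.J ≤ P) :
    P ≤ D.N := by
  haveI : Fact (Nat.Prime 3) := ⟨Nat.prime_three⟩
  haveI := hP.isNilpotent
  by_contra hne
  have hlt : D.N.subgroupOf P < ⊤ := lt_top_iff_ne_top.2 fun h =>
    hne (Subgroup.subgroupOf_eq_top.1 h)
  obtain ⟨y, hy, hy'⟩ := SetLike.exists_of_lt (Group.normalizerCondition_of_isNilpotent _ hlt)
  refine hy' (mem_subgroupOf.2 (D.mem_N_of_conj fun v => ?_))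
  exact mem_subgroupOf.1 ((mem_normalizer_iff.1 hy ⟨D.pt v, hJP (D.pt_mem v)⟩).1
    (mem_subgroupOf.2 (D.J_le_N (D.pt_mem v))))

/-- the centraliser of a point of weight two is `J` -/
theorem cent_two [Finite H] (hev : D.IsEven) {v : V} (hv : weight v = 2) {g : H}
    (hg : Commute g (D.pt v)) : g ∈ D.J := by
  classical
  haveI : Fact (Nat.Prime 3) := ⟨Nat.prime_three⟩
  set C := centralizer ({D.pt v} : Set H)
  have hJC : D.J ≤ C := fun a ha => mem_centralizer_singleton_iff.2 (D.J_comm ha (D.pt_mem v)).eq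
  have hN : ∀ {x : H}, x ∈ C → x ∈ D.N → x ∈ D.J := fun {x} hx hxN => by
    obtain ⟨m, hm, hxm⟩ := D.exists_mon hxN
    refine D.mem_J_of_acts ?_
    rwa [two_stab v hv m hm (hev x m hm hxm)
      (D.acts_fix hxm (mem_centralizer_singleton_iff.1 hx))] at hxm
  have hp : IsPGroup 3 (D.J.subgroupOf C) :=
    (IsPGroup.of_card (n := 3) (by rw [D.card_J]; norm_num) : IsPGroup 3 D.J).comap_subtype
  obtain ⟨P, hP⟩ := hp.exists_le_sylow
  have hPJ : (P : Subgroup C) = D.J.subgroupOf C := by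
    refine le_antisymm (fun x hx => mem_subgroupOf.2 (hN x.2 ?_)) hP
    exact D.three_group_le_N (P.isPGroup'.map C.subtype) (fun a ha => ⟨⟨a, hJC ha⟩, hP ha, rfl⟩)
      ⟨x, hx, rfl⟩
  have hnc : normalizer ((P : Subgroup C) : Set C) ≤ centralizer ((P : Subgroup C) : Set C) := by
    intro x hx
    have hxN : (x : H) ∈ D.N := D.mem_N_of_conj fun w => by
      have := (mem_normalizer_iff.1 hx ⟨D.pt w, hJC (D.pt_mem w)⟩).1
        (hPJ.ge (mem_subgroupOf.2 (D.pt_mem w)))
      exact D.J_le_N (mem_subgroupOf.1 (hPJ.le this))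
    refine mem_centralizer_iff.2 fun y hy => Subtype.ext ?_
    exact (D.J_comm (mem_subgroupOf.1 (hPJ.le hy)) (hN x.2 hxN)).eq
  set R := (MonoidHom.transferSylow P hnc).ker
  have hc := MonoidHom.ker_transferSylow_isComplement' P hnc
  have hR0 : R.map C.subtype = ⊥ := by
    refine D.sig _ ?_ ?_
    · rw [card_map_of_injective C.subtype_injective, Nat.coprime_comm]
      exact Nat.prime_three.coprime_iff_not_dvd.2 (MonoidHom.not_dvd_card_ker_transferSylow P hnc)
    · rintro w _ ⟨r, hr, rfl⟩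
      exact ⟨_, (MonoidHom.normal_ker _).conj_mem r hr ⟨D.pt w, hJC (D.pt_mem w)⟩, rfl⟩
  have hR1 : R = ⊥ := (map_eq_bot_iff_of_injective _ C.subtype_injective).1 hR0
  have htop : (P : Subgroup C) = ⊤ := by
    have := hc.sup_eq_top
    rwa [show (MonoidHom.transferSylow P hnc).ker = ⊥ from hR1, bot_sup_eq] at this
  have : (⟨g, mem_centralizer_singleton_iff.2 hg.eq⟩ : C) ∈ (P : Subgroup C) := htop ▸ mem_top _
  exact mem_subgroupOf.1 (hPJ.le this)

theorem cent_le [Finite H] (hev : D.IsEven) {v : V} (hv : v ≠ 0) {g : H}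
    (hg : Commute g (D.pt v)) : g ∈ D.N := by
  rcases weight_cases v hv with h | h | h
  · exact D.mem_N_iff.2 (D.loc (Or.inl h) hg)
  · exact D.J_le_N (D.cent_two hev h hg)
  · exact D.mem_N_iff.2 (D.loc (Or.inr h) hg)

end Setup

end CfsgLib.Recog.McLThree.WeakY
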