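import Cfsg.Agent.Lib.Recog.McLThree.WeakY.Setup

/-!
The model maps onto the normaliser.
-/

set_option autoImplicit false
set_option linter.style.haveILetI false

namespace CfsgLib.Recog.McLThree.WeakY

open Subgroup CfsgLib.Block CfsgLib.Block.FourCube
open CfsgLib.Recog.AltNine (detX bigV vecOf monOf liftM detX_monOf liftM_spec bigV_conj bigV_add)
open CfsgLib.Recog.SymNine (V Mon act comp monOne Acts Norms)

universe u

variable {H : Type u} [Group H] (D : Setup H)

theorem big_mul {g k : Big} (hg : Ev g) (hk : Ev k) :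
    monOf (g * k) = comp (monOf g) (monOf k) ∧
      vecpart (g * k) = vecpart g + act (monOf g) (vecpart k) := by
  have hm : detX (monOf g) = true := detX_monOf g.left g.right hg
  have hn : detX (monOf k) = true := detX_monOf k.left k.right hk
  have dg : bigV (vecpart g) * liftM (monOf g) = g := big_decomp g.left g.right hg
  have dk : bigV (vecpart k) * liftM (monOf k) = k := big_decomp k.left k.right hk
  have e : g * k = bigV (vecpart g + act (monOf g) (vecpart k)) *
      liftM (comp (monOf g) (monOf k)) := by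
    conv_lhs => rw [← dg, ← dk]
    rw [bigV_add, liftM_comp _ _ hm hn]
    have h1 := bigV_conj (liftM (monOf g)) (vecpart k)
    rw [(liftM_spec _ hm).2] at h1
    rw [← h1]
    group
  obtain ⟨a, b⟩ := big_parts (vecpart g + act (monOf g) (vecpart k))
    (comp (monOf g) (monOf k)) (comp_detX _ _ hm hn)
  rw [← e] at a b
  exact ⟨a, b⟩

namespace Setup

/-- the image of an element of the model -/
noncomputable def psi (g : Big) : H := D.pt (vecpart g) * D.kk (monOf g)

theorem psi_mul {g k : Big} (hg : Ev g) (hk : Ev k) (lg : D.Lifted (monOf g))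
    (lk : D.Lifted (monOf k)) : D.psi (g * k) = D.psi g * D.psi k := by
  obtain ⟨h1, h2⟩ := big_mul hg hk
  rw [psi, psi, psi, h1, h2, D.kk_mul lg lk, D.pt_add]
  calc D.pt (vecpart g) * D.pt (act (monOf g) (vecpart k)) * (D.kk (monOf g) * D.kk (monOf k))
      = D.pt (vecpart g) * (D.pt (act (monOf g) (vecpart k)) * D.kk (monOf g)) * D.kk (monOf k) := by
        group
    _ = _ := by rw [← D.kk_conj lg]; group

theorem psi_acts {g : Big} (lg : D.Lifted (monOf g)) : Acts D.pt (D.psi g) (monOf g) := by
  have := D.acts_mul (D.acts_pt (vecpart g)) (D.kk_spec lg).1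
  rwa [(comp_monOne _).2] at this

theorem psi_inj {g k : Big} (hg : Ev g) (hk : Ev k) (lg : D.Lifted (monOf g))
    (lk : D.Lifted (monOf k)) (e : D.psi g = D.psi k) : g = k := by
  have hm : monOf g = monOf k := by
    have := D.psi_acts lg
    rw [e] at this
    exact D.acts_unique this (D.psi_acts lk)
  rw [psi, psi, hm] at e
  have hv := D.pt_inj (mul_right_cancel e)
  calc g = bigV (vecpart g) * liftM (monOf g) := (big_decomp g.left g.right hg).symm
    _ = _ := by rw [hm, hv]; exact big_decomp k.left k.right hk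

theorem psi_surj [Finite H] {n : H} (hn : n ∈ D.N) :
    ∃ g : Big, Ev g ∧ D.Lifted (monOf g) ∧ D.psi g = n := by
  obtain ⟨m, hm, hg⟩ := D.exists_mon hn
  have lm : D.Lifted m := ⟨hm, n, hg⟩
  obtain ⟨hk, -⟩ := D.kk_spec lm
  obtain ⟨v, hv⟩ : n * (D.kk m)⁻¹ ∈ D.J := D.cent _ fun v => by
    have hsur : Function.Surjective (act m) := Finite.injective_iff_surjective.1 fun a b hab =>
      D.pt_inj ((MulAut.conj n).injective (by
        show n * D.pt a * n⁻¹ = n * D.pt b * n⁻¹
        rw [hg, hg, hab]))
    obtain ⟨w, rfl⟩ := hsur v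
    refine mul_inv_eq_iff_eq_mul.1 ?_
    conv_lhs => rw [← hk w]
    rw [← hg w]
    group
  obtain ⟨he, -⟩ := liftM_spec m hm
  refine ⟨bigV v * liftM m, Four.mul_mem (AltNine.bigV_ev v) he, ?_⟩
  obtain ⟨a, b⟩ := big_parts v m hm
  rw [psi, a, b]
  exact ⟨lm, by rw [hv, inv_mul_cancel_right]⟩

theorem psi_mem_J {g : Big} (hg : Ev g) (lg : D.Lifted (monOf g)) :
    D.psi g ∈ D.J ↔ InJ g := by
  rw [inJ_monOf g.left g.right hg]
  constructor
  · rintro ⟨v, hv⟩
    have := D.psi_acts lg
    rw [← hv] at this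
    exact D.acts_unique this (D.acts_pt v)
  · intro h
    rw [psi, show monOf g = monOne from h, D.kk_one, mul_one]
    exact D.pt_mem _

end Setup

end CfsgLib.Recog.McLThree.WeakY
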