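import Cfsg.Agent.Lib.Recog.McLThree.WeakY.PointSet
import Cfsg.Agent.Lib.Recog.McLThree.CentZ

/-!
An element of the normaliser of `J` fixing `y` induces a monomial rotation of the three basis vectors.
-/

set_option autoImplicit false
set_option linter.style.haveILetI false
set_option linter.unusedSectionVars false
set_option maxRecDepth 100000
set_option maxHeartbeats 1000000
set_option synthInstance.maxSize 4000

namespace CfsgLib.Recog.McLThree

open Subgroup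
open CfsgLib.Recog.SymNine (V Mon act comp monOne weight)
open CfsgLib.Recog.AltNine (detX)
open WeakY (dia cyc)

theorem pair_points : ∀ q : W4, Sg ((1, 0) + q) → Sg ((2, 0) + q) → q.1 = 0 ∧ weight q.2 = 1 := by
  decide +kernel

theorem three_weight : ∀ a b d : V, weight a = 1 → weight b = 1 → weight d = 1 → a ≠ b → a ≠ -b →
    a ≠ d → a ≠ -d → b ≠ d → b ≠ -d →
    ∃ m : Mon, act m (1, 0, 0) = a ∧ act m (0, 1, 0) = b ∧ act m (0, 0, 1) = d := by
  decide +kernel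

theorem lin4_mon : ∀ (m : Mon) (p : W4), lin4 (1, 0) (0, act m (1, 0, 0)) (0, act m (0, 1, 0))
    (0, act m (0, 0, 1)) p = (p.1, act m p.2) := by
  decide +kernel

/-- even rotations moving a coordinate to the first -/
def toFirst (o : Fin 4 × Fin 3) : Mon :=
  comp (![monOne, dia 0, dia 1, dia 2] o.1)
    (![monOne, comp cyc cyc, comp (comp cyc cyc) (comp cyc cyc)] o.2)

theorem reduce_odd : ∀ m : Mon, detX m = false → ∃ o : Fin 4 × Fin 3,
    act (comp (toFirst o) m) (1, 0, 0) = (1, 0, 0) ∧ detX (comp (toFirst o) m) = false := by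
  decide +kernel

theorem refl_facts : ∀ m : Mon, detX m = false → act m (1, 0, 0) = (1, 0, 0) →
    comp m m = monOne ∧ ∃ f f' : V, f ≠ 0 ∧ f.1 = 0 ∧ act m f = f ∧ f' ≠ 0 ∧ f'.1 = 0 ∧
      act m f' = -f' := by
  decide +kernel

theorem fixed_span : ∀ m : Mon, detX m = false → act m (1, 0, 0) = (1, 0, 0) → ∀ f : V, f ≠ 0 →
    f.1 = 0 → act m f = f → ∀ p : W4, p.1 = p.2.1 → act m p.2 = p.2 →
      ∃ i n : Fin 3, p = (i : ℕ) • ((2, (2, 0, 0)) : W4) + (n : ℕ) • ((0, f) : W4) := by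
  decide +kernel

theorem inverter_facts : ∀ a : SL5, a ^ 3 = 1 → a ≠ 1 → ∀ x : SL5, x * a * x⁻¹ = a⁻¹ →
    x * x = -1 ∧ ∀ x' : SL5, x' * a * x'⁻¹ = a⁻¹ →
      ∃ j : Fin 3, a ^ (j : ℕ) * x' * (a ^ (j : ℕ))⁻¹ = x ∨
        a ^ (j : ℕ) * x' * (a ^ (j : ℕ))⁻¹ = -1 * x := by
  decide +kernel

variable {G : Type*} [Group G] [Finite G] {h : Hyp G}

namespace Coords

variable (c : Coords h)

theorem exists_mon {g : G} (hg : g ∈ normalizer (h.J : Set G)) (hy : g * c.y * g⁻¹ = c.y) :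
    ∃ m : Mon, ∀ p, g * c.p4 p * g⁻¹ = c.p4 (p.1, act m p.2) := by
  have himg : ∀ q : W4, ∃ q', g * c.p4 q * g⁻¹ = c.p4 q' := fun q =>
    (c.p4_surj (h.conj_J hg (c.p4_mem q))).imp fun _ => Eq.symm
  obtain ⟨E0, h0⟩ := himg (0, (1, 0, 0))
  obtain ⟨E1, h1⟩ := himg (0, (0, 1, 0))
  obtain ⟨E2, h2⟩ := himg (0, (0, 0, 1))
  rw [c.p4_e₀] at h0
  rw [c.p4_e₁] at h1
  rw [c.p4_e₂] at h2
  have hc := c.conj_p4 (Y := (1, 0)) (by rw [hy, c.p4_y]) h0 h1 h2
  have hpt : ∀ (v : V), weight v = 1 → ∀ k : ZMod 3, k ≠ 0 →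
      Sg (lin4 (1, 0) E0 E1 E2 (k, v)) := fun v hv k hk =>
    (c.isPt_iff _).1 (IsPt.conj c ((c.isPt_iff (k, v)).2 (Or.inl ⟨hk, hv⟩)) (hc _))
  have hk : ∀ (v : V) (E : W4), weight v = 1 → g * c.p4 (0, v) * g⁻¹ = c.p4 E →
      E.1 = 0 ∧ weight E.2 = 1 := by
    intro v E hv he
    have hsum : ∀ k : ZMod 3, k ≠ 0 → Sg ((k, 0) + E) := fun k hk => by
      refine (c.isPt_iff _).1 (IsPt.conj c ((c.isPt_iff (k, v)).2 (Or.inl ⟨hk, hv⟩)) (k := g) ?_)
      rw [show ((k, v) : W4) = k.val • ((1, 0) : W4) + (0, v) from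
        (by decide +kernel : ∀ (k : ZMod 3) (v : V),
          ((k, v) : W4) = k.val • ((1, 0) : W4) + (0, v)) k v,
        show ((k, 0) : W4) = k.val • ((1, 0) : W4) from
        (by decide +kernel : ∀ k : ZMod 3, ((k, 0) : W4) = k.val • ((1, 0) : W4)) k,
        c.p4_add, c.p4_add, c.p4_nsmul, c.p4_y, ← he, ← conj_mul, ← conj_pow, hy]
    exact pair_points E (hsum 1 (by decide)) (hsum 2 (by decide))
  obtain ⟨a0, w0⟩ := hk _ E0 (by decide +kernel) (c.p4_e₀.symm ▸ h0)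
  obtain ⟨a1, w1⟩ := hk _ E1 (by decide +kernel) (c.p4_e₁.symm ▸ h1)
  obtain ⟨a2, w2⟩ := hk _ E2 (by decide +kernel) (c.p4_e₂.symm ▸ h2)
  obtain ⟨E0k, E0v⟩ := E0
  obtain ⟨E1k, E1v⟩ := E1
  obtain ⟨E2k, E2v⟩ := E2
  simp only at a0 a1 a2 w0 w1 w2
  subst a0 a1 a2
  have hd : ∀ v v' : V, v ≠ v' → ∀ w w', g * c.p4 (0, v) * g⁻¹ = c.p4 (0, w) →
      g * c.p4 (0, v') * g⁻¹ = c.p4 (0, w') → w ≠ w' := by
    intro v v' hne w w' e e' hw
    rw [hw, ← e'] at e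
    exact hne (congrArg Prod.snd (c.p4_inj (conj_injective e)))
  have hn : ∀ v w, g * c.p4 (0, v) * g⁻¹ = c.p4 (0, w) →
      g * c.p4 (0, -v) * g⁻¹ = c.p4 (0, -w) := fun v w e => by
    rw [show ((0, -v) : W4) = -(0, v) from Prod.ext (by simp) rfl,
      show ((0, -w) : W4) = -(0, w) from Prod.ext (by simp) rfl, c.p4_neg, c.p4_neg, ← conj_inv, e]
  rw [← c.p4_e₀] at h0
  rw [← c.p4_e₁] at h1
  rw [← c.p4_e₂] at h2
  obtain ⟨m, m0, m1, m2⟩ := three_weight E0v E1v E2v w0 w1 w2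
    (hd _ _ (by decide +kernel) _ _ h0 h1) (hd _ _ (by decide +kernel) _ _ h0 (hn _ _ h1))
    (hd _ _ (by decide +kernel) _ _ h0 h2) (hd _ _ (by decide +kernel) _ _ h0 (hn _ _ h2))
    (hd _ _ (by decide +kernel) _ _ h1 h2) (hd _ _ (by decide +kernel) _ _ h1 (hn _ _ h2))
  refine ⟨m, fun p => ?_⟩
  rw [hc, ← lin4_mon, m0, m1, m2]

/-- there is no reflection -/
theorem no_reflection {r : G} (hr : r ∈ normalizer (h.J : Set G)) {m : Mon} (hm : detX m = false)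
    (hm0 : act m (1, 0, 0) = (1, 0, 0))
    (hrm : ∀ p, r * c.p4 p * r⁻¹ = c.p4 (p.1, act m p.2)) : False := by
  obtain ⟨hmm, f, f', hf, hf1, hmf, hf', hf'1, hmf'⟩ := refl_facts m hm hm0
  have hm2 : act m (2, 0, 0) = (2, 0, 0) := by
    rw [show ((2, 0, 0) : V) = (1, 0, 0) + (1, 0, 0) by decide +kernel,
      CfsgLib.Recog.SymNine.act_add, hm0]
  have hrz : r * h.z * r⁻¹ = h.z := by rw [c.z_coord, hrm, hm2]
  have hz'c : c.z' = c.p4 (2, (1, 0, 0)) := by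
    have e := c.U_act (2, (2, 0, 0))
    rw [← c.z_coord] at e
    exact e.trans (congrArg c.p4 (by decide +kernel))
  have hrz' : r * c.z' * r⁻¹ = c.z' := by rw [hz'c, hrm, hm0]
  obtain ⟨b, hb⟩ := c.exists_gen
  obtain ⟨q₀, -, hlT, hlz⟩ := c.exists_inverter_L0 hb
  set l : G := ((q₀ * word ⟨c.z', c.z'_mem_L0⟩ b : h.L0) : G) with hldef
  have hlL : l ∈ h.L0 := SetLike.coe_mem _
  set x := h.piL ⟨l, hlL⟩
  have hinv : ∀ {k : G} (hk : k ∈ h.L0), k * c.z' * k⁻¹ = c.z'⁻¹ →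
      h.piL ⟨k, hk⟩ * c.a0 * (h.piL ⟨k, hk⟩)⁻¹ = c.a0⁻¹ := fun {k} hk e => by
    rw [a0, ← map_inv, ← map_mul, ← map_mul, ← map_inv]
    exact congrArg h.piL (Subtype.ext e)
  obtain ⟨hxx, hconj⟩ := inverter_facts _ c.a0_facts.1 c.a0_facts.2 x (hinv hlL hlz)
  have hrC : r ∈ h.CZ := h.mem_CZ.2 (mul_inv_eq_iff_eq_mul.1 hrz)
  have hrl : r * l * r⁻¹ ∈ h.L0 := h.conj_L0' (h.CZ_le_NZ hrC) hlL
  have hrlz : r * l * r⁻¹ * c.z' * (r * l * r⁻¹)⁻¹ = c.z'⁻¹ := by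
    calc r * l * r⁻¹ * c.z' * (r * l * r⁻¹)⁻¹
        = r * (l * (r⁻¹ * (r * c.z' * r⁻¹) * r) * l⁻¹) * r⁻¹ := by rw [hrz']; group
      _ = r * (l * c.z' * l⁻¹) * r⁻¹ := by group
      _ = c.z'⁻¹ := by rw [hlz, ← conj_inv, hrz']
  obtain ⟨j, hj⟩ := hconj _ (hinv hrl hrlz)
  set jel : G := c.z' ^ (j : ℕ)
  have hjelJ : jel ∈ h.J := pow_mem c.z'_mem_E.1 _
  set r' := jel * r with hr'
  have hr'act : ∀ p, r' * c.p4 p * r'⁻¹ = c.p4 (p.1, act m p.2) := fun p => by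
    rw [hr', show jel * r * c.p4 p * (jel * r)⁻¹ = jel * (r * c.p4 p * r⁻¹) * jel⁻¹ by group, hrm,
      h.J_comm _ hjelJ _ (c.p4_mem _), mul_inv_cancel_right]
  have hr'z : r' * h.z * r'⁻¹ = h.z := by rw [c.z_coord, hr'act, hm2]
  have hr'z' : r' * c.z' * r'⁻¹ = c.z' := by rw [hz'c, hr'act, hm0]
  have hr'C : r' ∈ h.CZ := mul_mem (h.S_le_CZ (h.J_le hjelJ)) hrC
  have hr'N := h.CZ_le_NZ hr'C
  have hjL : jel ∈ h.L0 := pow_mem c.z'_mem_L0 _
  have hr'l : r' * l * r'⁻¹ ∈ h.L0 := h.conj_L0' hr'N hlL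
  have hpi : h.piL ⟨r' * l * r'⁻¹, hr'l⟩ =
      c.a0 ^ (j : ℕ) * h.piL ⟨r * l * r⁻¹, hrl⟩ * (c.a0 ^ (j : ℕ))⁻¹ := by
    rw [← map_pow, ← map_inv, ← map_mul, ← map_mul]
    exact congrArg h.piL (Subtype.ext (by
      show r' * l * r'⁻¹ = jel * (r * l * r⁻¹) * jel⁻¹
      rw [hr']; group))
  have hsq : r' * r' ∈ h.J := by
    refine h.cent_J.le (mem_centralizer_iff.2 fun u hu => ?_)
    obtain ⟨p, rfl⟩ := c.p4_surj hu
    refine (mul_inv_eq_iff_eq_mul.1 ?_).symm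
    rw [show r' * r' * c.p4 p * (r' * r')⁻¹ = r' * (r' * c.p4 p * r'⁻¹) * r'⁻¹ by group, hr'act,
      hr'act, ← CfsgLib.Recog.SymNine.act_comp, hmm, CfsgLib.Recog.SymNine.act_one]
  have hlC := h.L0_le_CZ hlL
  have hlN := h.CZ_le_NZ hlC
  rcases hj with hj | hj
  · -- `r'` commutes with the inverter modulo `Q`
    rw [← hpi] at hj
    have hk : l⁻¹ * (r' * l * r'⁻¹) ∈ h.Q := (h.piL_eq_iff hr'l hlL).1 hj
    -- a point of `Q/A` fixed by `r'`
    have hfA : ∀ v : V, v.1 = 0 → c.p4 (0, v) ∈ h.A := by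
      intro v hv
      refine c.mem_A_of_inverted (c.p4_mem _) ?_
      rw [c.T_act, ← c.p4_neg]
      exact congrArg c.p4 ((by decide +kernel : ∀ v : V, v.1 = 0 →
        ((0, act (dia 0) v) : W4) = -(0, v)) v hv)
    have hinjal : ∀ {u u' : G}, u ∈ h.Q → u' ∈ h.Q → (c.al u')⁻¹ * c.al u ∈ h.Z →
        u'⁻¹ * u ∈ h.A := by
      intro u u' hu hu' hz
      refine c.comm_z'_Z (mul_mem (inv_mem hu') hu) ?_
      obtain ⟨i, hi⟩ := mem_zpowers_iff.1 hz
      have hzc : Commute (h.z ^ i) u' := ((h.z_comm_Q hu').symm).zpow_left i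
      have e1 : u * c.z' * u⁻¹ = u' * c.z' * u'⁻¹ * h.z ^ i := by
        have hcz : Commute c.z' (h.z ^ i) :=
          (show Commute c.z' h.z from h.J_comm _ c.z'_mem_E.1 _ h.z_mem_J).zpow_right i
        have e2 : c.al u' * h.z ^ i = c.al u := by rw [hi, mul_inv_cancel_left]
        calc u * c.z' * u⁻¹ = c.al u * c.z' := by simp only [al]; generalize c.z' = w; group
          _ = c.al u' * (h.z ^ i * c.z') := by rw [← e2, mul_assoc]
          _ = c.al u' * (c.z' * h.z ^ i) := by rw [hcz.symm.eq]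
          _ = _ := by simp only [al]; generalize c.z' = w; group
      have e3 : u'⁻¹ * u * c.z' * (u'⁻¹ * u)⁻¹ * c.z'⁻¹ = c.z' * h.z ^ i * c.z'⁻¹ := by
        calc u'⁻¹ * u * c.z' * (u'⁻¹ * u)⁻¹ * c.z'⁻¹
            = u'⁻¹ * (u * c.z' * u⁻¹) * u' * c.z'⁻¹ := by group
          _ = c.z' * u'⁻¹ * (h.z ^ i * u') * c.z'⁻¹ := by rw [e1]; generalize c.z' = w; group
          _ = _ := by rw [hzc.eq]; group
      rw [e3, ← conj_zpow]
      refine zpow_mem ?_ i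
      rw [h.J_comm _ c.z'_mem_E.1 _ h.z_mem_J, mul_inv_cancel_right]
      exact mem_zpowers _
    have hsurj : ∀ a ∈ h.A, ∃ u ∈ h.Q, (c.al u)⁻¹ * a ∈ h.Z := by
      have hidx : Nat.card (h.Q ⧸ h.A.subgroupOf h.Q) = 9 := by
        have h1 := Subgroup.card_eq_card_quotient_mul_card_subgroup (h.A.subgroupOf h.Q)
        rw [h.Q_card, Nat.card_congr (subgroupOfEquivOfLe (inf_le_right : h.A ≤ h.Q)).toEquiv,
          h.card_A] at h1
        omega
      let F : (h.Q ⧸ h.A.subgroupOf h.Q) × h.Z → h.A := fun t =>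
        ⟨c.al (t.1.out : G) * (t.2 : G), mul_mem (c.al_mem t.1.out.2)
          ((zpowers_le.2 h.z_mem_A : h.Z ≤ h.A) t.2.2)⟩
      have hF : Function.Bijective F := by
        refine (Nat.bijective_iff_injective_and_card F).2 ⟨?_, by
          rw [Nat.card_prod, hidx, h.card_Z, h.card_A]⟩
        rintro ⟨t, s⟩ ⟨t', s'⟩ e
        have e' : c.al (t.out : G) * (s : G) = c.al (t'.out : G) * (s' : G) := congrArg Subtype.val e
        have ht : t = t' := by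
          rw [← t.out_eq', ← t'.out_eq']
          refine (QuotientGroup.eq.2 ?_).symm
          refine mem_subgroupOf.2 (hinjal t.out.2 t'.out.2 ?_)
          rw [eq_mul_inv_of_mul_eq e']
          rw [mul_assoc (c.al (t'.out : G)), inv_mul_cancel_left]
          exact mul_mem s'.2 (inv_mem s.2)
        subst ht
        exact Prod.ext rfl (Subtype.ext (mul_left_cancel e'))
      intro a ha
      obtain ⟨⟨t, s⟩, e⟩ := hF.2 ⟨a, ha⟩
      refine ⟨t.out, t.out.2, ?_⟩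
      rw [show a = c.al (t.out : G) * (s : G) from (congrArg Subtype.val e).symm, inv_mul_cancel_left]
      exact s.2
    obtain ⟨q, hq, hqf⟩ := hsurj _ (hfA f hf1)
    have hal : ∀ u : G, r' * c.al u * r'⁻¹ = c.al (r' * u * r'⁻¹) := fun u => by
      calc r' * c.al u * r'⁻¹
          = r' * u * r'⁻¹ * (r' * c.z' * r'⁻¹) * (r' * u * r'⁻¹)⁻¹ * (r' * c.z' * r'⁻¹)⁻¹ := by
            simp only [al]; group
        _ = _ := by rw [hr'z']
    have hconjZ : ∀ {u : G}, u ∈ h.Z → r' * u * r'⁻¹ = u := fun hu => h.Z_comm_CZ hr'C hu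
    have hfix : r' * c.al q * r'⁻¹ = c.al q := by
      obtain ⟨i, hi⟩ := mem_zpowers_iff.1 hqf
      have e : c.al q = c.p4 (0, f) * (h.z ^ i)⁻¹ := by rw [hi]; generalize c.al q = w; group
      rw [e, ← conj_mul, hr'act, hmf, hconjZ (inv_mem (zpow_mem (mem_zpowers _) i))]
    have hqA' : (r' * q * r'⁻¹)⁻¹ * q ∈ h.A := hinjal hq (h.conj_Q hr'N hq) (by
      rw [← hal, hfix, inv_mul_cancel]; exact one_mem _)
    set q' := l * q * l⁻¹ with hq'
    have hq'Q : q' ∈ h.Q := h.conj_Q hlN hq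
    have hlJ : l ∈ normalizer (h.J : Set G) := by
      refine h.normS_le_normJ (mem_normalizer_of_forward fun s hs => ?_)
      have hle : h.Q ⊔ zpowers c.z' ≤ (h.S : Subgroup G).comap (MulAut.conj l).toMonoidHom := by
        refine sup_le (fun w hw => h.Q_le_S (h.conj_Q hlN hw)) (zpowers_le.2 ?_)
        show l * c.z' * l⁻¹ ∈ (h.S : Subgroup G)
        rw [hlz]; exact inv_mem (h.J_le c.z'_mem_E.1)
      exact hle (c.S_le_sup hs)
    have hq'A : (r' * q' * r'⁻¹)⁻¹ * q' ∈ h.A := by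
      set k := l⁻¹ * (r' * l * r'⁻¹)
      set a := (r' * q * r'⁻¹)⁻¹ * q
      have e : (r' * q' * r'⁻¹)⁻¹ * q' =
          l * (k * (r' * q * r'⁻¹)⁻¹ * k⁻¹ * ((r' * q * r'⁻¹)⁻¹)⁻¹) * l⁻¹ * (l * a * l⁻¹) := by
        simp only [q', k, a]; group
      rw [e]
      refine mul_mem ?_ ⟨h.conj_J hlJ hqA'.1, h.conj_Q hlN hqA'.2⟩
      rw [h.Z_comm_CZ hlC (h.Q_comm k hk _ (inv_mem (h.conj_Q hr'N hq)))]
      exact (zpowers_le.2 h.z_mem_A : h.Z ≤ h.A) (h.Q_comm k hk _ (inv_mem (h.conj_Q hr'N hq)))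
    -- the value at `q'` is fixed too
    obtain ⟨p, hp⟩ := c.p4_surj (c.al_mem hq'Q).1
    have hd : (c.al q')⁻¹ * c.al (r' * q' * r'⁻¹) ∈ h.Z := by
      set u := r' * q' * r'⁻¹
      have hu : u ∈ h.Q := h.conj_Q hr'N hq'Q
      set a := u⁻¹ * q'
      have e1 : q' * c.z' * q'⁻¹ = u * c.z' * u⁻¹ := by
        rw [show q' * c.z' * q'⁻¹ = u * (a * c.z' * a⁻¹) * u⁻¹ by simp only [a]; group,
          h.J_comm _ hq'A.1 _ c.z'_mem_E.1, mul_inv_cancel_right]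
      simp only [al, e1, inv_mul_cancel]
      exact one_mem _
    have hpA : p.1 = p.2.1 := by
      have hmem : c.p4 p ∈ h.A := hp ▸ c.al_mem hq'Q
      have h1 : c.p4 (p.1 - p.2.1, 0) ∈ h.A := by
        rw [show ((p.1 - p.2.1, 0) : W4) = p + -(((0, (0, p.2.2.1, p.2.2.2)) : W4) +
            (2 * p.2.1).val • ((2, (2, 0, 0)) : W4)) from
          (by decide +kernel : ∀ p : W4, ((p.1 - p.2.1, 0) : W4) =
            p + -(((0, (0, p.2.2.1, p.2.2.2)) : W4) + (2 * p.2.1).val • ((2, (2, 0, 0)) : W4))) p,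
          c.p4_add, c.p4_neg, c.p4_add, c.p4_nsmul, ← c.z_coord]
        exact mul_mem hmem (inv_mem (mul_mem (hfA _ rfl) (pow_mem h.z_mem_A _)))
      by_contra hne
      have hy' : c.y ∈ h.Q → False := fun hyQ => c.z'_notMem_Q (by
        have := mul_mem (inv_mem h.z_mem_Q) hyQ
        rwa [inv_mul_cancel_left] at this)
      rcases (by decide : ∀ d : ZMod 3, d = 0 ∨ d = 1 ∨ d = -1) (p.1 - p.2.1) with e | e | e
      · exact hne (sub_eq_zero.1 e)
      · rw [e, c.p4_y] at h1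
        exact hy' h1.2
      · rw [e, show ((-1, 0) : W4) = -(1, 0) from Prod.ext rfl (by decide +kernel), c.p4_neg,
          c.p4_y] at h1
        exact hy' (inv_mem_iff.1 h1.2)
    have hpfix : act m p.2 = p.2 := by
      rw [← hal, ← hp, hr'act] at hd
      obtain ⟨i, hi⟩ := mem_zpowers_iff.1 hd
      have h0 : h.z ^ i = h.z ^ (i % 3).toNat := by
        conv_lhs => rw [← zpow_mod_orderOf, h.z_order]
        rw [← zpow_natCast, Int.toNat_of_nonneg (Int.emod_nonneg i (by norm_num))]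
        rfl
      rw [h0, c.z_coord, ← c.p4_nsmul, ← c.p4_neg, ← c.p4_add] at hi
      have := c.p4_inj hi
      exact (by decide +kernel : ∀ (p : W4) (w : V) (n : Fin 3),
        (n : ℕ) • ((2, (2, 0, 0)) : W4) = -p + (p.1, w) → w = p.2) p _
          ⟨(i % 3).toNat, by omega⟩ this
    obtain ⟨i, n, hpn⟩ := fixed_span m hm hm0 f hf hf1 hmf p hpA hpfix
    have hq'q : (q ^ (n : ℕ))⁻¹ * q' ∈ h.A := by
      refine hinjal hq'Q (pow_mem hq _) ?_
      have hpow : ∀ k : ℕ, (c.al (q ^ k))⁻¹ * c.al q ^ k ∈ h.Z := by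
        intro k
        induction k with
        | zero => simp [al]
        | succ k ih =>
          have hz := h.Q_comm _ (pow_mem hq k) _ (c.al_mem hq).2
          have hcm : Commute (c.al (q ^ k)) (c.al q) :=
            h.A_comm _ (c.al_mem (pow_mem hq k)) _ (c.al_mem hq)
          rw [pow_succ, c.al_mul, pow_succ']
          set w := q ^ k * c.al q * (q ^ k)⁻¹ * (c.al q)⁻¹
          rw [show (w * (c.al q * c.al (q ^ k)))⁻¹ * (c.al q * c.al q ^ k) =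
            (c.al (q ^ k))⁻¹ * ((c.al q)⁻¹ * w⁻¹ * c.al q) * c.al q ^ k by
              generalize c.al (q ^ k) = a; generalize c.al q = b; group,
            mul_assoc (c.al q)⁻¹, ← h.Z_comm_Q (c.al_mem hq).2 (inv_mem hz), inv_mul_cancel_left,
            mul_assoc, ← h.Z_comm_Q (pow_mem (c.al_mem hq).2 k) (inv_mem hz), ← mul_assoc]
          exact mul_mem ih (inv_mem hz)
      have e1 : c.al q' = h.z ^ (i : ℕ) * c.p4 (0, f) ^ (n : ℕ) := by
        rw [← hp, hpn, c.p4_add, c.p4_nsmul, c.p4_nsmul, ← c.z_coord]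
      obtain ⟨s, hs⟩ := mem_zpowers_iff.1 hqf
      have e2 : c.p4 (0, f) = c.al q * h.z ^ s := by rw [hs, mul_inv_cancel_left]
      have hzq : Commute (c.al q) (h.z ^ s) :=
        (h.z_comm_Q (c.al_mem hq).2).zpow_right s
      rw [e1, e2, hzq.mul_pow, ← mul_assoc (h.z ^ (i : ℕ)),
        ← h.Z_comm_Q (pow_mem (c.al_mem hq).2 _) (pow_mem (mem_zpowers _) _), mul_assoc, ← mul_assoc]
      exact mul_mem (hpow n) (mul_mem (pow_mem (mem_zpowers _) _)
        (pow_mem (zpow_mem (mem_zpowers _) s) _))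
    -- compare the values of the pairing
    have hqA : q ∉ h.A := by
      intro hA
      have h1 : c.al q = 1 := by
        show q * c.z' * q⁻¹ * c.z'⁻¹ = 1
        rw [h.J_comm _ hA.1 _ c.z'_mem_E.1, mul_inv_cancel_right, mul_inv_cancel]
      rw [h1, inv_one, one_mul] at hqf
      obtain ⟨k, hk⟩ := mem_zpowers_iff.1 hqf
      have h0 : h.z ^ k = h.z ^ (k % 3).toNat := by
        conv_lhs => rw [← zpow_mod_orderOf, h.z_order]
        rw [← zpow_natCast, Int.toNat_of_nonneg (Int.emod_nonneg k (by norm_num))]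
        rfl
      rw [h0, c.z_coord, ← c.p4_nsmul] at hk
      exact hf ((by decide +kernel : ∀ (f : V) (n : Fin 3),
        (n : ℕ) • ((2, (2, 0, 0)) : W4) = (0, f) → f = 0) f ⟨(k % 3).toNat, by omega⟩ (c.p4_inj hk))
    have he : c.beta q q ≠ 0 := fun e0 => hqA (c.beta_aniso hq e0)
    have hb1 : c.beta q' q' = -c.beta q q := by
      rw [c.beta_conj hlN 1 (-1) (by rw [zpow_one]; exact mul_inv_eq_iff_eq_mul.2 (h.mem_CZ.1 hlC))
        (by rw [zpow_neg_one]; exact hlz) (by norm_num) hq hq]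
      norm_num
    have hqn : q' * (q ^ (n : ℕ))⁻¹ ∈ h.A := by
      have := h.Q_comm _ (pow_mem hq (n : ℕ)) _ hq'q.2
      rw [show q' * (q ^ (n : ℕ))⁻¹ =
        (q ^ (n : ℕ) * ((q ^ (n : ℕ))⁻¹ * q') * (q ^ (n : ℕ))⁻¹ * ((q ^ (n : ℕ))⁻¹ * q')⁻¹) *
          ((q ^ (n : ℕ))⁻¹ * q') by group]
      exact mul_mem ((zpowers_le.2 h.z_mem_A : h.Z ≤ h.A) this) hq'q
    have hb2 : c.beta q' q' = ((n : ℕ) : ZMod 3) * (((n : ℕ) : ZMod 3) * c.beta q q) := by
      have hqn' := pow_mem hq (n : ℕ)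
      rw [c.beta_congr hqn' hqn hq'Q, c.beta_pow_left hq hq'Q, c.beta_symm hq hq'Q,
        c.beta_congr hqn' hqn hq, c.beta_pow_left hq hq]
    rw [hb1] at hb2
    exact he ((by decide +kernel : ∀ (e : ZMod 3) (n : Fin 3),
      -e = ((n : ℕ) : ZMod 3) * (((n : ℕ) : ZMod 3) * e) → e = 0) _ n hb2)
  · -- `r'` composed with the inverter would be an involution on `Q/A` reversing the pairing
    rw [← hpi] at hj
    have hσσ : l * (r' * l * r'⁻¹) ∈ h.Q := by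
      have hk : (⟨l, hlL⟩ * ⟨r' * l * r'⁻¹, hr'l⟩ : h.L0) ∈ h.piL.ker := by
        rw [MonoidHom.mem_ker, map_mul, hj, sl_neg_one.2.2, ← mul_assoc, hxx, sl_neg_one.2.1]
      rwa [h.piL_ker, mem_subgroupOf] at hk
    refine c.no_anti_involution (σ := l * r') (h.CZ_le_NZ (mul_mem hlC hr'C)) 1 (-1)
      (by rw [zpow_one]; exact mul_inv_eq_iff_eq_mul.2 (h.mem_CZ.1 (mul_mem hlC hr'C)))
      (by rw [show l * r' * c.z' * (l * r')⁻¹ = l * (r' * c.z' * r'⁻¹) * l⁻¹ by group, hr'z',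
        zpow_neg_one]; exact hlz) (by norm_num) (by norm_num) fun w hw => ?_
    have hw' := h.conj_Q (h.CZ_le_NZ (h.S_le_CZ (h.J_le hsq))) hw
    rw [show l * r' * (l * r' * w * (l * r')⁻¹) * (l * r')⁻¹ * w⁻¹ =
      (l * (r' * l * r'⁻¹)) * (r' * r' * w * (r' * r')⁻¹) * (l * (r' * l * r'⁻¹))⁻¹ *
        (r' * r' * w * (r' * r')⁻¹)⁻¹ * (r' * r' * w * (r' * r')⁻¹ * w⁻¹) by group]
    exact mul_mem ((zpowers_le.2 h.z_mem_A : h.Z ≤ h.A) (h.Q_comm _ hσσ _ hw')) (h.comm_JQ hsq hw)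

/-- The normaliser of `J` in the centraliser of `y` induces monomial rotations. -/
theorem exists_rotation {g : G} (hg : g ∈ normalizer (h.J : Set G)) (hy : g * c.y * g⁻¹ = c.y) :
    ∃ m : Mon, detX m = true ∧ ∀ p, g * c.p4 p * g⁻¹ = c.p4 (p.1, act m p.2) := by
  obtain ⟨m, hm⟩ := c.exists_mon hg hy
  refine ⟨m, ?_, hm⟩
  by_contra hd
  rw [Bool.not_eq_true] at hd
  obtain ⟨⟨d, i⟩, h0, hdet⟩ := reduce_odd m hd
  have hD : ∃ k ∈ normalizer (h.J : Set G),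
      ∀ p, k * c.p4 p * k⁻¹ = c.p4 (p.1, act (![monOne, dia 0, dia 1, dia 2] d) p.2) := by
    fin_cases d
    · exact ⟨1, one_mem _, fun p => by
        rw [one_mul, inv_one, mul_one]
        exact (congrArg c.p4 (Prod.ext rfl (CfsgLib.Recog.SymNine.act_one p.2))).symm⟩
    · exact ⟨c.T, c.T_normJ, c.T_act⟩
    · exact ⟨c.U, c.U_normJ, c.U_act⟩
    · exact ⟨c.T * c.U, mul_mem c.T_normJ c.U_normJ, c.TU_act⟩
  have hI : ∃ k ∈ normalizer (h.J : Set G), ∀ p, k * c.p4 p * k⁻¹ =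
      c.p4 (p.1, act (![monOne, comp cyc cyc, comp (comp cyc cyc) (comp cyc cyc)] i) p.2) := by
    fin_cases i
    · exact ⟨1, one_mem _, fun p => by
        rw [one_mul, inv_one, mul_one]
        exact (congrArg c.p4 (Prod.ext rfl (CfsgLib.Recog.SymNine.act_one p.2))).symm⟩
    · exact ⟨c.Mel, c.Mel_normJ, c.M_act⟩
    · refine ⟨c.Mel * c.Mel, mul_mem c.Mel_normJ c.Mel_normJ, fun p => ?_⟩
      rw [show c.Mel * c.Mel * c.p4 p * (c.Mel * c.Mel)⁻¹ =
        c.Mel * (c.Mel * c.p4 p * c.Mel⁻¹) * c.Mel⁻¹ by group, c.M_act, c.M_act]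
      exact congrArg c.p4 (Prod.ext rfl (CfsgLib.Recog.SymNine.act_comp _ _ _).symm)
  obtain ⟨k1, hk1, hk1m⟩ := hD
  obtain ⟨k2, hk2, hk2m⟩ := hI
  refine c.no_reflection (r := k1 * k2 * g) (mul_mem (mul_mem hk1 hk2) hg) hdet h0 fun p => ?_
  rw [show k1 * k2 * g * c.p4 p * (k1 * k2 * g)⁻¹ = k1 * (k2 * (g * c.p4 p * g⁻¹) * k2⁻¹) * k1⁻¹ by
    group, hm, hk2m, hk1m]
  simp only [toFirst, CfsgLib.Recog.SymNine.act_comp]

end Coords

end CfsgLib.Recog.McLThree
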