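import Cfsg.Agent.Lib.Recog.McLThree.WeakY.Iso
import Cfsg.Agent.Lib.Recog.AltNine.Local
import Cfsg.Agent.Lib.Recog.AltNine.Middle
import Cfsg.Agent.Lib.Solvable.PCore

/-!
An odd permutation in the normaliser: the normaliser is the model of order 648 and is everything.
-/

set_option autoImplicit false
set_option linter.style.haveILetI false

namespace CfsgLib.Recog.McLThree.WeakY

open Subgroup CfsgLib.Block CfsgLib.Block.FourCube
open CfsgLib.Recog.AltNine (detX bigV vecOf monOf liftM detX_monOf Cfg)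
open CfsgLib.Recog.SymNine (V Mon act comp monOne x0 e0 e1 e2 weight Acts Norms)

universe u

variable {H : Type u} [Group H] (D : Setup H)

namespace Setup

theorem norms_orbit [Finite H] {w₀ w : V} {m : Mon} (hm : D.Lifted m) (hw : act m w₀ = w)
    (h₀ : ∀ g, Commute g (D.pt w₀) → Norms D.pt g) {g : H} (hg : Commute g (D.pt w)) :
    Norms D.pt g := by
  obtain ⟨hk, -⟩ := D.kk_spec hm
  set k := D.kk m
  have e : k * D.pt w₀ * k⁻¹ = D.pt w := by rw [hk, hw]
  have hc : Commute (k⁻¹ * g * k) (D.pt w₀) := by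
    show k⁻¹ * g * k * D.pt w₀ = D.pt w₀ * (k⁻¹ * g * k)
    calc k⁻¹ * g * k * D.pt w₀ = k⁻¹ * (g * (k * D.pt w₀ * k⁻¹)) * k := by group
      _ = k⁻¹ * (k * D.pt w₀ * k⁻¹ * g) * k := by rw [e, hg.eq]
      _ = _ := by group
  have h1 := D.mem_N_iff.2 (h₀ _ hc)
  have hkN := D.mem_N_of_acts hk
  refine D.mem_N_iff.1 ?_
  have := D.N.mul_mem (D.N.mul_mem hkN h1) (D.N.inv_mem hkN)
  simpa [mul_assoc] using this

/-- centralisers of points of weight one and three normalise -/
theorem loc [Finite H] {v : V} (hv : weight v = 1 ∨ weight v = 3) {g : H}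
    (hg : Commute g (D.pt v)) : Norms D.pt g := by
  have hneg : Commute g (D.pt (-v)) := by rw [D.pt_neg]; exact hg.inv_right
  have h1 : D.Lifted monOne := ⟨by decide +kernel, 1, D.acts_one⟩
  rcases hv with hv | hv
  · obtain ⟨i, hi⟩ := orbit_one v hv
    have hl : D.Lifted (![monOne, cyc, comp cyc cyc] i) := by
      have hc : D.Lifted cyc := ⟨by decide +kernel, D.lift_cyc⟩
      fin_cases i <;> first | exact h1 | exact hc | exact Lifted.comp D hc hc
    rcases hi with hi | hi
    · exact D.norms_orbit hl hi D.loc_one hg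
    · exact D.norms_orbit hl hi D.loc_one hneg
  · obtain ⟨d, hd⟩ := orbit_three v hv
    have hl : D.Lifted (![monOne, dia 0, dia 1, dia 2] d) := by
      fin_cases d <;> first
        | exact h1
        | exact ⟨dia_facts.1 0, _, D.tau_acts 0⟩
        | exact ⟨dia_facts.1 1, _, D.tau_acts 1⟩
        | exact ⟨dia_facts.1 2, _, D.tau_acts 2⟩
    rcases hd with hd | hd
    · exact D.norms_orbit hl hd D.loc_three hg
    · exact D.norms_orbit hl hd D.loc_three hneg

theorem pPrimeCore_cent [Finite H] {x : H} (hx : x ∈ D.J) :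
    Cfsg.pPrimeCore 3 (centralizer ({x} : Set H)) = ⊥ := by
  set C := centralizer ({x} : Set H)
  have hn := CfsgLib.Solvable.pPrimeCore_normal 3 C
  have hJC : ∀ v, D.pt v ∈ C := fun v => by
    obtain ⟨a, rfl⟩ := hx
    exact mem_centralizer_singleton_iff.2 (D.commute_pt v a).eq
  have h0 : (Cfsg.pPrimeCore 3 C).map C.subtype = ⊥ := by
    refine D.sig _ ?_ ?_
    · rw [card_map_of_injective C.subtype_injective]
      exact CfsgLib.Solvable.pPrimeCore_coprime 3
    · rintro v _ ⟨r, hr, rfl⟩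
      exact ⟨_, hn.conj_mem r hr ⟨D.pt v, hJC v⟩, rfl⟩
  exact (map_eq_bot_iff_of_injective _ C.subtype_injective).1 h0

/-- an odd permutation is induced: everything normalises -/
theorem norms_of_odd [Finite H] {n₀ : H} {m₀ : Mon} (hm₀ : detX m₀ = true)
    (hn₀ : Acts D.pt n₀ m₀) (hodd : 3 ≤ m₀.1.val) (g : H) : Norms D.pt g := by
  classical
  have hall : ∀ {b : Big}, Ev b → D.Lifted (monOf b) := fun {b} hb =>
    D.lifted_all ⟨hm₀, n₀, hn₀⟩ hodd (detX_monOf b.left b.right hb)
  let f : Four →* D.N :=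
    MonoidHom.mk' (fun b => ⟨D.psi b, D.mem_N_of_acts (D.psi_acts (hall b.2))⟩)
      (fun a b => Subtype.ext (D.psi_mul a.2 b.2 (hall a.2) (hall b.2)))
  have hf : Function.Bijective f := by
    refine ⟨fun a b e => Subtype.ext (D.psi_inj a.2 b.2 (hall a.2) (hall b.2)
      (congrArg Subtype.val e)), fun n => ?_⟩
    obtain ⟨b, hb, -, e⟩ := D.psi_surj n.2
    exact ⟨⟨b, hb⟩, Subtype.ext e⟩
  let C : Cfg H :=
    { H := D.N
      J := D.J
      hH := rfl
      e := MulEquiv.ofBijective f hf
      mem_J := fun a => D.psi_mem_J a.2 (hall a.2)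
      cores := fun x hx _ => D.pPrimeCore_cent hx }
  have hpt : ∀ v, C.pt v = D.pt v := fun v => by
    show D.psi (bigV v) = _
    obtain ⟨a, b⟩ := big_parts v monOne (by decide +kernel)
    have e : bigV v * liftM monOne = bigV v := by
      rw [show liftM monOne = 1 by decide +kernel, mul_one]
    rw [e] at a b
    rw [psi, a, b, D.kk_one, mul_one]
  have hloc : C.Local := by
    intro j hj hj1 g hg
    obtain ⟨v, rfl⟩ : j ∈ D.J := hj
    have hv : v ≠ 0 := fun e => hj1 (by rw [e, D.pt_zero])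
    have hg' : Commute g (D.pt v) := mem_centralizer_singleton_iff.1 hg
    show g ∈ D.N
    rcases weight_cases v hv with h | h | h
    · exact D.mem_N_iff.2 (D.loc (Or.inl h) hg')
    · refine (C.norms_iff g).1 (C.middle (w := v) (by rw [h]) ?_)
      rwa [hpt]
    · exact D.mem_N_iff.2 (D.loc (Or.inr h) hg')
  have htop : D.N = ⊤ := AltNine.Cfg.eq_top_of_local C hloc
  exact D.mem_N_iff.1 (htop ▸ mem_top g)

end Setup

end CfsgLib.Recog.McLThree.WeakY
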