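import Cfsg.Agent.Lib.Recog.McLThree.WeakY.Basis

/-!
The parametrisation of `J` by the basis and the linear maps induced by the known elements.
-/

set_option autoImplicit false
set_option linter.style.haveILetI false
set_option linter.unusedSectionVars false
set_option maxRecDepth 4000
set_option synthInstance.maxSize 4000

namespace CfsgLib.Recog.McLThree

open Subgroup
open CfsgLib.Recog.SymNine (V act)
open WeakY (dia cyc)

/-- coordinates on `J` -/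
abbrev W4 := ZMod 3 × V

/-- linear combination of four vectors -/
def lin4 (Y E0 E1 E2 p : W4) : W4 :=
  p.1.val • Y + p.2.1.val • E0 + p.2.2.1.val • E1 + p.2.2.2.val • E2

/-- the map induced by the element of order four -/
def wAct (b : ZMod 3) (p : W4) : W4 := (-p.1, (-p.2.1, -(b * p.2.2.2), b * p.2.2.1))

theorem lin4_T : ∀ p : W4, lin4 (1, 0) (0, (1, 0, 0)) (0, (0, -1, 0)) (0, (0, 0, -1)) p =
    (p.1, act (dia 0) p.2) := by decide +kernel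

theorem lin4_U : ∀ p : W4, lin4 (1, 0) (0, (-1, 0, 0)) (0, (0, 1, 0)) (0, (0, 0, -1)) p =
    (p.1, act (dia 1) p.2) := by decide +kernel

theorem lin4_M : ∀ p : W4, lin4 (1, 0) (0, (0, 1, 0)) (0, (0, 0, 1)) (0, (1, 0, 0)) p =
    (p.1, act (CfsgLib.Recog.SymNine.comp cyc cyc) p.2) := by decide +kernel

theorem lin4_W : ∀ (b : ZMod 3) (p : W4),
    lin4 (-1, 0) (0, (-1, 0, 0)) (0, (0, 0, b)) (0, (0, -b, 0)) p = wAct b p := by decide +kernel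

theorem lin4_id : ∀ p : W4, lin4 (1, 0) (0, (1, 0, 0)) (0, (0, 1, 0)) (0, (0, 0, 1)) p = p := by
  decide +kernel

theorem W_image : ∀ q : W4, (q.1, act (dia 2) q.2) = q → (q.1, act (dia 0) q.2) = -q →
    q = (0, (0, 0, q.2.2.2)) := by decide +kernel

theorem W_second : ∀ b : ZMod 3, b ≠ 0 →
    (0, (0, 0, 1)) = b.val • ((0, (0, 0, b)) : W4) ∧
      b.val • ((0, (0, -1, 0)) : W4) = (0, (0, -b, 0)) := by decide +kernel

variable {G : Type*} [Group G] [Finite G] {h : Hyp G}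

theorem pow_val_add {x : G} (hx : x ^ 3 = 1) (a b : ZMod 3) :
    x ^ (a + b).val = x ^ a.val * x ^ b.val := by
  rw [← pow_add, ZMod.val_add, ← pow_eq_pow_mod _ hx]

theorem pow_val_neg_one {x : G} (hx : x ^ 3 = 1) : x ^ (-1 : ZMod 3).val = x⁻¹ := by
  rw [show (-1 : ZMod 3).val = 2 from rfl]
  exact eq_inv_of_mul_eq_one_left (by rw [← pow_succ, hx])

theorem conj4 (g a b x d : G) (i j k l : ℕ) :
    g * (a ^ i * b ^ j * x ^ k * d ^ l) * g⁻¹ =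
      (g * a * g⁻¹) ^ i * (g * b * g⁻¹) ^ j * (g * x * g⁻¹) ^ k * (g * d * g⁻¹) ^ l := by
  simp only [conj_pow, conj_mul]

theorem mul4_comm {J : Subgroup G} (hJ : ∀ a ∈ J, ∀ b ∈ J, a * b = b * a) {a b x d a' b' x' d' : G}
    (ha : a' ∈ J) (hb : b ∈ J) (hb' : b' ∈ J) (hx : x ∈ J) (hd : d ∈ J) (hx' : x' ∈ J) :
    a * a' * (b * b') * (x * x') * (d * d') = a * b * x * d * (a' * b' * x' * d') := by
  have k : ∀ {u v : G}, u ∈ J → v ∈ J → ∀ w : G, u * (v * w) = v * (u * w) := fun {u v} hu hv w => by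
    rw [← mul_assoc, hJ u hu v hv, mul_assoc]
  simp only [mul_assoc]
  rw [k ha hb, k hb' hx, k hx' hd, k ha hx, k hb' hd, k ha hd]

namespace Coords

variable (c : Coords h)

/-- The parametrisation. -/
noncomputable def p4 (p : W4) : G :=
  c.y ^ p.1.val * c.e₀ ^ p.2.1.val * c.e₁ ^ p.2.2.1.val * c.e₂ ^ p.2.2.2.val

theorem p4_mem (p : W4) : c.p4 p ∈ h.J :=
  mul_mem (mul_mem (mul_mem (pow_mem c.y_mem_J _) (pow_mem c.e₀_mem _)) (pow_mem c.e₁_mem _))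
    (pow_mem c.e₂_mem _)

theorem p4_add (p q : W4) : c.p4 (p + q) = c.p4 p * c.p4 q := by
  unfold p4
  simp only [Prod.fst_add, Prod.snd_add]
  rw [pow_val_add c.y_cube, pow_val_add (h.J_exp _ c.e₀_mem),
    pow_val_add (h.J_exp _ c.e₁_mem), pow_val_add (h.J_exp _ c.e₂_mem)]
  exact mul4_comm h.J_comm (pow_mem c.y_mem_J _) (pow_mem c.e₀_mem _) (pow_mem c.e₀_mem _)
    (pow_mem c.e₁_mem _) (pow_mem c.e₂_mem _) (pow_mem c.e₁_mem _)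

theorem p4_zero : c.p4 0 = 1 := by simp [p4]

theorem p4_nsmul (n : ℕ) (p : W4) : c.p4 (n • p) = c.p4 p ^ n := by
  induction n with
  | zero => rw [zero_smul, c.p4_zero, pow_zero]
  | succ n ih => rw [succ_nsmul, c.p4_add, ih, pow_succ]

theorem p4_neg (p : W4) : c.p4 (-p) = (c.p4 p)⁻¹ :=
  eq_inv_of_mul_eq_one_left (by rw [← c.p4_add, neg_add_cancel, c.p4_zero])

theorem p4_y : c.p4 (1, 0) = c.y := by simp [p4, ZMod.val_one]

theorem p4_e₀ : c.p4 (0, (1, 0, 0)) = c.e₀ := by simp [p4, ZMod.val_one]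

theorem p4_e₁ : c.p4 (0, (0, 1, 0)) = c.e₁ := by simp [p4, ZMod.val_one]

theorem p4_e₂ : c.p4 (0, (0, 0, 1)) = c.e₂ := by simp [p4, ZMod.val_one]

theorem conj_p4 {g : G} {Y E0 E1 E2 : W4} (hy : g * c.y * g⁻¹ = c.p4 Y)
    (h0 : g * c.e₀ * g⁻¹ = c.p4 E0) (h1 : g * c.e₁ * g⁻¹ = c.p4 E1)
    (h2 : g * c.e₂ * g⁻¹ = c.p4 E2) (p : W4) :
    g * c.p4 p * g⁻¹ = c.p4 (lin4 Y E0 E1 E2 p) := by
  rw [lin4, c.p4_add, c.p4_add, c.p4_add, c.p4_nsmul, c.p4_nsmul, c.p4_nsmul, c.p4_nsmul, ← hy, ← h0,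
    ← h1, ← h2]
  exact conj4 g _ _ _ _ _ _ _ _

theorem T_act (p : W4) : c.T * c.p4 p * c.T⁻¹ = c.p4 (p.1, act (dia 0) p.2) := by
  rw [← lin4_T]
  refine c.conj_p4 (by rw [c.T_y, c.p4_y]) (by rw [c.T_e₀, c.p4_e₀]) ?_ ?_ p
  · rw [c.T_e₁, ← c.p4_e₁, ← c.p4_neg]; rfl
  · rw [c.T_e₂, ← c.p4_e₂, ← c.p4_neg]; rfl

theorem U_act (p : W4) : c.U * c.p4 p * c.U⁻¹ = c.p4 (p.1, act (dia 1) p.2) := by
  rw [← lin4_U]
  refine c.conj_p4 (by rw [c.U_y, c.p4_y]) ?_ (by rw [c.U_e₁, c.p4_e₁]) ?_ p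
  · rw [c.U_e₀, ← c.p4_e₀, ← c.p4_neg]; rfl
  · rw [c.U_e₂, ← c.p4_e₂, ← c.p4_neg]; rfl

theorem TU_act (p : W4) : c.T * c.U * c.p4 p * (c.T * c.U)⁻¹ = c.p4 (p.1, act (dia 2) p.2) := by
  rw [show c.T * c.U * c.p4 p * (c.T * c.U)⁻¹ = c.T * (c.U * c.p4 p * c.U⁻¹) * c.T⁻¹ by group,
    c.U_act, c.T_act]
  refine congrArg c.p4 (Prod.ext rfl ?_)
  show act (dia 0) (act (dia 1) p.2) = _
  rw [← CfsgLib.Recog.SymNine.act_comp, WeakY.dia_facts.2.2.2]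

theorem M_act (p : W4) :
    c.Mel * c.p4 p * c.Mel⁻¹ = c.p4 (p.1, act (CfsgLib.Recog.SymNine.comp cyc cyc) p.2) := by
  rw [← lin4_M]
  exact c.conj_p4 (by rw [c.M_y, c.p4_y]) c.p4_e₁.symm c.p4_e₂.symm (by rw [c.M_e₂, c.p4_e₀]) p

theorem p4_ker {p : W4} (hp : c.p4 p = 1) : p = 0 := by
  have hne : ∀ {x : G}, x ≠ 1 → x ^ 3 = 1 → ∀ a : ZMod 3, x ^ a.val = 1 → a = 0 := by
    intro x hx h3 a ha
    haveI : Fact (Nat.Prime 3) := ⟨by norm_num⟩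
    have := orderOf_dvd_of_pow_eq_one ha
    rw [orderOf_eq_prime h3 hx] at this
    exact (ZMod.val_eq_zero a).1 (Nat.eq_zero_of_dvd_of_lt this (ZMod.val_lt a))
  have e1ne : c.e₁ ≠ 1 := fun e => c.e₀_ne (conj_eq_one_iff.1 e)
  have e2ne : c.e₂ ≠ 1 := fun e => e1ne (conj_eq_one_iff.1 e)
  have hT := c.T_act p
  have hU := c.U_act p
  rw [hp, mul_one, mul_inv_cancel] at hT hU
  -- the `T`-fixed and `U`-fixed parts
  have h01 : c.p4 (-p.1, (-p.2.1, 0, 0)) = 1 := by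
    rw [show ((-p.1, (-p.2.1, 0, 0)) : W4) = p + (p.1, act (dia 0) p.2) from
      (by decide +kernel : ∀ p : W4, ((-p.1, (-p.2.1, 0, 0)) : W4) = p + (p.1, act (dia 0) p.2)) p,
      c.p4_add, hp, ← hT, one_mul]
  have h02 : c.p4 (-p.1, (0, -p.2.2.1, 0)) = 1 := by
    rw [show ((-p.1, (0, -p.2.2.1, 0)) : W4) = p + (p.1, act (dia 1) p.2) from
      (by decide +kernel : ∀ p : W4, ((-p.1, (0, -p.2.2.1, 0)) : W4) = p + (p.1, act (dia 1) p.2)) p,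
      c.p4_add, hp, ← hU, one_mul]
  have h03 := c.U_act (-p.1, (-p.2.1, 0, 0))
  rw [h01, mul_one, mul_inv_cancel] at h03
  have h04 : c.p4 (p.1, 0) = 1 := by
    rw [show ((p.1, 0) : W4) = (-p.1, (-p.2.1, 0, 0)) + (-p.1, act (dia 1) (-p.2.1, 0, 0)) from
      (by decide +kernel : ∀ p : W4, ((p.1, 0) : W4) =
        (-p.1, (-p.2.1, 0, 0)) + (-p.1, act (dia 1) (-p.2.1, 0, 0))) p, c.p4_add, h01, ← h03, one_mul]
  have hk : p.1 = 0 := hne c.y_ne c.y_cube _ (by simpa [p4] using h04)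
  have ha : -p.2.1 = 0 := hne c.e₀_ne (h.J_exp _ c.e₀_mem) _ (by simpa [p4, hk] using h01)
  have hb : -p.2.2.1 = 0 := hne e1ne (h.J_exp _ c.e₁_mem) _ (by simpa [p4, hk] using h02)
  rw [neg_eq_zero] at ha hb
  have hc : p.2.2.2 = 0 := hne e2ne (h.J_exp _ c.e₂_mem) _ (by simpa [p4, hk, ha, hb] using hp)
  exact Prod.ext hk (Prod.ext ha (Prod.ext hb hc))

theorem p4_inj : Function.Injective c.p4 := fun p q e => by
  refine sub_eq_zero.1 (c.p4_ker ?_)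
  rw [sub_eq_add_neg, c.p4_add, c.p4_neg, e, mul_inv_cancel]

theorem p4_surj {x : G} (hx : x ∈ h.J) : ∃ p, c.p4 p = x := by
  let f : W4 → h.J := fun p => ⟨c.p4 p, c.p4_mem p⟩
  have hf : Function.Bijective f := (Nat.bijective_iff_injective_and_card f).2
    ⟨fun p q e => c.p4_inj (congrArg Subtype.val e), by
      rw [h.J_card, Nat.card_eq_fintype_card]; rfl⟩
  obtain ⟨p, hp⟩ := hf.2 ⟨x, hx⟩
  exact ⟨p, congrArg Subtype.val hp⟩

/-- The element of order four acts by one of two maps. -/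
theorem W_act : ∃ b : ZMod 3, b ≠ 0 ∧ ∀ p, c.W * c.p4 p * c.W⁻¹ = c.p4 (wAct b p) := by
  obtain ⟨q, hq⟩ := c.p4_surj (h.conj_J c.W_normJ c.e₁_mem)
  have hT : c.T * (c.W * c.e₁ * c.W⁻¹) * c.T⁻¹ = (c.W * c.e₁ * c.W⁻¹)⁻¹ := by
    rw [show c.T * (c.W * c.e₁ * c.W⁻¹) * c.T⁻¹ = c.W * (c.T * c.e₁ * c.T⁻¹) * c.W⁻¹ by
      simp only [T, W]; group, c.T_e₁]
    group
  have hTU : c.T * c.U * (c.W * c.e₁ * c.W⁻¹) * (c.T * c.U)⁻¹ = c.W * c.e₁ * c.W⁻¹ := by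
    have e : c.pi (c.w * c.u * c.w⁻¹) = c.pi (c.w * c.w * c.u) := by
      rw [c.pi_TU, map_mul, map_mul, map_inv, c.pi_w, c.pi_u, w0_u0]
    have := c.same_act e (h.conj_J c.W_normJ c.e₁_mem)
    refine this.symm.trans ?_
    simp only [Subgroup.coe_mul, Subgroup.coe_inv]
    calc c.W * c.U * c.W⁻¹ * (c.W * c.e₁ * c.W⁻¹) * (c.W * c.U * c.W⁻¹)⁻¹
        = c.W * (c.U * c.e₁ * c.U⁻¹) * c.W⁻¹ := by group
      _ = _ := by rw [c.U_e₁]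
  rw [← hq, c.T_act, ← c.p4_neg] at hT
  rw [← hq, c.TU_act] at hTU
  have hqb := W_image q (c.p4_inj hTU) (c.p4_inj hT)
  set b := q.2.2.2
  have hb : b ≠ 0 := by
    intro e
    rw [e, show ((0, (0, 0, 0)) : W4) = 0 from rfl] at hqb
    rw [hqb, c.p4_zero] at hq
    exact c.e₀_ne (conj_eq_one_iff.1 (conj_eq_one_iff.1 hq.symm))
  have h1 : c.W * c.e₁ * c.W⁻¹ = c.p4 (0, (0, 0, b)) := by rw [← hqb, hq]
  have h2 : c.W * c.e₂ * c.W⁻¹ = c.p4 (0, (0, -b, 0)) := by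
    have e2 : c.e₂ = (c.W * c.e₁ * c.W⁻¹) ^ b.val := by
      rw [h1, ← c.p4_nsmul, ← (W_second b hb).1, c.p4_e₂]
    rw [e2, ← conj_pow, show c.W * (c.W * c.e₁ * c.W⁻¹) * c.W⁻¹ = c.T * c.e₁ * c.T⁻¹ by
      simp only [T, W]; group, c.T_e₁, ← c.p4_e₁, ← c.p4_neg, ← c.p4_nsmul]
    exact congrArg c.p4 (W_second b hb).2
  refine ⟨b, hb, fun p => ?_⟩
  rw [← lin4_W]
  refine c.conj_p4 ?_ ?_ h1 h2 p
  · rw [c.W_y, ← c.p4_y, ← c.p4_neg]; rfl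
  · rw [show c.W * c.e₀ * c.W⁻¹ = c.e₀⁻¹ by
      rw [← conj_mul, ← conj_inv, c.W_z, c.W_z', inv_inv, mul_inv_rev, inv_inv]
      exact h.J_comm _ (inv_mem h.z_mem_J) _ c.z'_mem_E.1, ← c.p4_e₀, ← c.p4_neg]
    rfl

theorem z_coord : h.z = c.p4 (2, (2, 0, 0)) := by
  have hc : Commute h.z c.z' := h.J_comm _ h.z_mem_J _ c.z'_mem_E.1
  simp only [p4, ZMod.val_zero, pow_zero, mul_one, show (2 : ZMod 3).val = 2 from rfl]
  rw [show c.y ^ 2 * c.e₀ ^ 2 = (h.z * c.z') ^ 2 * (h.z * c.z'⁻¹) ^ 2 from rfl, hc.mul_pow,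
    hc.inv_right.mul_pow, inv_pow]
  calc h.z = h.z ^ 2 * h.z ^ 2 := by rw [← pow_add, pow_succ, h.z_cube, one_mul]
    _ = h.z ^ 2 * h.z ^ 2 * (c.z' ^ 2 * (c.z' ^ 2)⁻¹) := by rw [mul_inv_cancel, mul_one]
    _ = h.z ^ 2 * (h.z ^ 2 * c.z' ^ 2) * (c.z' ^ 2)⁻¹ := by group
    _ = _ := by
      conv_lhs => rw [(hc.pow_pow 2 2).eq]
      group

end Coords

end CfsgLib.Recog.McLThree
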