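import Cfsg.Agent.Lib.Recog.McLThree.WeakY.Param
import Cfsg.Agent.Lib.Recog.McLThree.Form

/-!
The twenty conjugates of the centre lying in `J`, in coordinates.
-/

set_option autoImplicit false
set_option linter.style.haveILetI false
set_option linter.unusedSectionVars false
set_option maxRecDepth 4000
set_option synthInstance.maxSize 4000

namespace CfsgLib.Recog.McLThree

open Subgroup
open CfsgLib.Recog.SymNine (V act comp monOne weight)
open WeakY (dia cyc)

/-- the points -/
def Sg (p : W4) : Prop := (p.1 ≠ 0 ∧ weight p.2 = 1) ∨ (p.1 = 0 ∧ weight p.2 = 3)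

instance : DecidablePred Sg := fun p => inferInstanceAs (Decidable (_ ∨ _))

/-- the known maps -/
abbrev Op := Bool × Bool × Fin 4 × Fin 3

/-- their action -/
def opAct (b : ZMod 3) (o : Op) (p : W4) : W4 :=
  let q1 : W4 := if o.1 then -p else p
  let q2 : W4 := if o.2.1 then wAct b q1 else q1
  let q3 : W4 := (q2.1, act (![monOne, dia 0, dia 1, dia 2] o.2.2.1) q2.2)
  (q3.1, act (![monOne, comp cyc cyc, comp (comp cyc cyc) (comp cyc cyc)] o.2.2.2) q3.2)

/-- outside the points but in the plane of the two first points -/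
def Bad (p : W4) : Prop := p.2.2.1 = 0 ∧ p.2.2.2 = 0 ∧ ¬ Sg p

instance : DecidablePred Bad := fun p => inferInstanceAs (Decidable (_ ∧ _))

theorem orbit_z : ∀ b : ZMod 3, b ≠ 0 → ∀ p : W4, p.1 ≠ 0 → weight p.2 = 1 →
    ∃ o : Op, opAct b o (2, (2, 0, 0)) = p := by
  decide +kernel

theorem orbit_big : ∀ b : ZMod 3, b ≠ 0 → ∀ p : W4, ¬ Sg p →
    (∃ o : Op, Bad (opAct b o p)) ∨
      20 < ((Finset.univ.image fun o : Op => opAct b o p) ∪
        (Finset.univ.filter fun q : W4 => q.1 ≠ 0 ∧ weight q.2 = 1)).card := by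
  decide +kernel

theorem card_Sg : (Finset.univ.filter Sg).card = 20 := by decide +kernel

variable {G : Type*} [Group G] [Finite G] {h : Hyp G}

namespace Coords

variable (c : Coords h)

/-- being conjugate to the centre -/
def IsPt (p : W4) : Prop := ∃ g : G, g * h.z * g⁻¹ = c.p4 p

theorem IsPt.conj {p q : W4} (hp : c.IsPt p) {k : G} (e : k * c.p4 p * k⁻¹ = c.p4 q) : c.IsPt q := by
  obtain ⟨g, hg⟩ := hp
  exact ⟨k * g, by rw [← e, ← hg]; group⟩

theorem IsPt.neg {p : W4} (hp : c.IsPt p) : c.IsPt (-p) := by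
  obtain ⟨g, hg⟩ := hp
  refine ⟨g * c.W, ?_⟩
  rw [c.p4_neg, ← hg, show g * c.W * h.z * (g * c.W)⁻¹ = g * (c.W * h.z * c.W⁻¹) * g⁻¹ by group, c.W_z]
  group

theorem IsPt.op {b : ZMod 3} (hW : ∀ p, c.W * c.p4 p * c.W⁻¹ = c.p4 (wAct b p)) (o : Op) {p : W4}
    (hp : c.IsPt p) : c.IsPt (opAct b o p) := by
  obtain ⟨s, w, d, i⟩ := o
  have h1 : c.IsPt (if s then -p else p) := by cases s <;> [exact hp; exact IsPt.neg c hp]
  have h2 : c.IsPt (if w then wAct b (if s then -p else p) else (if s then -p else p)) := by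
    cases w <;> [exact h1; exact IsPt.conj c h1 (hW _)]
  set q2 := if w then wAct b (if s then -p else p) else (if s then -p else p)
  have h3 : c.IsPt (q2.1, act (![monOne, dia 0, dia 1, dia 2] d) q2.2) := by
    fin_cases d
    · simpa [CfsgLib.Recog.SymNine.act_one] using h2
    · exact IsPt.conj c h2 (c.T_act _)
    · exact IsPt.conj c h2 (c.U_act _)
    · exact IsPt.conj c h2 (c.TU_act _)
  show c.IsPt (q2.1, act _ (act _ q2.2))
  generalize act (![monOne, dia 0, dia 1, dia 2] d) q2.2 = v at h3 ⊢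
  have h4 := IsPt.conj c h3 (c.M_act (q2.1, v))
  fin_cases i
  · simpa [CfsgLib.Recog.SymNine.act_one] using h3
  · exact h4
  · have h5 := IsPt.conj c h4 (c.M_act _)
    simpa [CfsgLib.Recog.SymNine.act_comp] using h5

theorem isPt_z : c.IsPt (2, (2, 0, 0)) := ⟨1, by rw [← c.z_coord]; group⟩

theorem isPt_known {p : W4} (h1 : p.1 ≠ 0) (h2 : weight p.2 = 1) : c.IsPt p := by
  obtain ⟨b, hb, hW⟩ := c.W_act
  obtain ⟨o, rfl⟩ := orbit_z b hb p h1 h2
  exact IsPt.op c hW o c.isPt_z

theorem not_bad {p : W4} (hp : c.IsPt p) : ¬ Bad p := by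
  rintro ⟨hb, hc, hn⟩
  obtain ⟨g, hg⟩ := hp
  have hE : c.p4 p ∈ c.E := by
    refine ⟨c.p4_mem p, mem_centralizer_singleton_iff.2 ?_⟩
    have e := c.T_act p
    rw [show (p.1, act (dia 0) p.2) = p from
      (by decide +kernel : ∀ p : W4, p.2.2.1 = 0 → p.2.2.2 = 0 → (p.1, act (dia 0) p.2) = p) p hb hc] at e
    exact (mul_inv_eq_iff_eq_mul.1 e).symm
  have hz' : c.z' = c.p4 (2, (1, 0, 0)) := by
    have e := c.U_act (2, (2, 0, 0))
    rw [← c.z_coord] at e
    exact e.trans (congrArg c.p4 (by decide +kernel))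
  have := c.points_E (g := g) (hg ▸ hE)
  rw [hg, hz', c.z_coord, ← c.p4_neg, ← c.p4_neg] at this
  refine hn ?_
  rcases this with e | e | e | e <;> rw [c.p4_inj e] <;> decide +kernel

theorem card_points_le : Nat.card {p : W4 // c.IsPt p} ≤ 20 := by
  haveI : Fact (Nat.Prime 3) := ⟨by norm_num⟩
  set JS := h.J.subgroupOf (h.S : Subgroup G)
  let sh : (h.S : Subgroup G) ⧸ JS → G := fun x => (x.out : G) * c.z' * (x.out : G)⁻¹
  have hsh : ∀ s : (h.S : Subgroup G), (s : G) * c.z' * (s : G)⁻¹ = sh (QuotientGroup.mk s) := by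
    intro s
    obtain ⟨⟨j, hj⟩, e⟩ := QuotientGroup.mk_out_eq_mul JS s
    show _ = ((QuotientGroup.mk s : (h.S : Subgroup G) ⧸ JS).out : G) * c.z' *
      ((QuotientGroup.mk s : (h.S : Subgroup G) ⧸ JS).out : G)⁻¹
    rw [e]
    simp only [Subgroup.coe_mul]
    calc (s : G) * c.z' * (s : G)⁻¹ = (s : G) * ((j : G) * c.z' * (j : G)⁻¹) * (s : G)⁻¹ := by
          rw [h.J_comm j hj _ c.z'_mem_E.1, mul_inv_cancel_right]
      _ = _ := by group
  let f : Bool ⊕ (Bool × ((h.S : Subgroup G) ⧸ JS)) → G := fun t => match t with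
    | Sum.inl b => if b then h.z else h.z⁻¹
    | Sum.inr (b, x) => if b then sh x else (sh x)⁻¹
  have hidx : Nat.card ((h.S : Subgroup G) ⧸ JS) = 9 := by
    have h1 := Subgroup.card_eq_card_quotient_mul_card_subgroup JS
    rw [h.card_S, Nat.card_congr (subgroupOfEquivOfLe h.J_le).toEquiv, h.J_card] at h1
    omega
  have hsub : ∀ p : {p : W4 // c.IsPt p}, ∃ t, f t = c.p4 p := by
    rintro ⟨p, g, hg⟩
    rcases c.points_J (g := g) (hg ▸ c.p4_mem p) with e | e | ⟨s, hs, e | e⟩
    · exact ⟨Sum.inl true, by rw [← hg, e]; rfl⟩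
    · exact ⟨Sum.inl false, by rw [← hg, e]; rfl⟩
    · exact ⟨Sum.inr (true, QuotientGroup.mk ⟨s, hs⟩), by rw [← hg, e]; exact (hsh ⟨s, hs⟩).symm⟩
    · refine ⟨Sum.inr (false, QuotientGroup.mk ⟨s, hs⟩), ?_⟩
      rw [← hg, e, ← conj_inv]
      exact congrArg (·⁻¹) (hsh ⟨s, hs⟩).symm
  choose t ht using hsub
  refine (Nat.card_le_card_of_injective t fun p q e => Subtype.ext (c.p4_inj ?_)).trans ?_
  · rw [← ht p, ← ht q, e]
  · rw [Nat.card_sum, Nat.card_prod, hidx]
    simp

theorem card_points_ge : 20 ≤ Nat.card {p : W4 // c.IsPt p} := by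
  haveI : Fact (Nat.Prime 3) := ⟨by norm_num⟩
  set JS := h.J.subgroupOf (h.S : Subgroup G)
  have hidx : Nat.card ((h.S : Subgroup G) ⧸ JS) = 9 := by
    have h1 := Subgroup.card_eq_card_quotient_mul_card_subgroup JS
    rw [h.card_S, Nat.card_congr (subgroupOfEquivOfLe h.J_le).toEquiv, h.J_card] at h1
    omega
  let sh : (h.S : Subgroup G) ⧸ JS → G := fun x => (x.out : G) * c.z' * (x.out : G)⁻¹
  have hshJ : ∀ x, sh x ∈ h.J := fun x => h.conj_J (h.S_le_normJ x.out.2) c.z'_mem_E.1
  have hA : ∀ x, sh x * c.z'⁻¹ ∈ h.A := fun x => c.comm_z' x.out.2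
  have hQ : ∀ x, sh x ∉ h.Q := fun x hq => c.z'_notMem_Q (by
    have h1 : (sh x * c.z'⁻¹)⁻¹ * sh x ∈ h.Q := mul_mem (inv_mem (hA x).2) hq
    rwa [mul_inv_rev, inv_inv, mul_assoc, inv_mul_cancel, mul_one] at h1)
  have hinj : ∀ x x', sh x = sh x' → x = x' := by
    intro x x' e
    rw [← x.out_eq', ← x'.out_eq']
    refine QuotientGroup.eq.2 (mem_subgroupOf.2 ?_)
    set s : G := ((x.out⁻¹ * x'.out : (h.S : Subgroup G)) : G) with hs
    have hfix : s * c.z' * s⁻¹ = c.z' := by
      simp only [s, Subgroup.coe_mul, Subgroup.coe_inv]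
      calc (x.out : G)⁻¹ * x'.out * c.z' * ((x.out : G)⁻¹ * x'.out)⁻¹
          = (x.out : G)⁻¹ * sh x' * x.out := by simp only [sh]; group
        _ = c.z' := by rw [← e]; simp only [sh, z']; group
    obtain ⟨j, hj, q, hq, hjq⟩ := h.exists_mul (SetLike.coe_mem (x.out⁻¹ * x'.out : (h.S : Subgroup G)))
    have hjq' : s = j * q := hjq
    have hqz : q * c.z' * q⁻¹ = c.z' := by
      rw [hjq'] at hfix
      calc q * c.z' * q⁻¹ = j⁻¹ * (j * q * c.z' * (j * q)⁻¹) * j := by group
        _ = c.z' := by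
          rw [hfix, mul_assoc, ← h.J_comm j hj _ c.z'_mem_E.1, inv_mul_cancel_left]
    show s ∈ h.J
    rw [hjq']
    exact mul_mem hj (c.comm_z'_Z hq (by rw [hqz, mul_inv_cancel]; exact one_mem _)).1
  have hne : ∀ x x', sh x ≠ (sh x')⁻¹ := by
    intro x x' e
    have h1 := mul_mem (hA x) (hA x')
    have h3 : sh x * c.z'⁻¹ * (sh x' * c.z'⁻¹) = 1 * c.z' ^ (-2 : ℤ) := by
      rw [show sh x * c.z'⁻¹ * (sh x' * c.z'⁻¹) = sh x * (c.z'⁻¹ * sh x') * c.z'⁻¹ by group,
        h.J_comm _ (inv_mem c.z'_mem_E.1) _ (hshJ x'), ← mul_assoc (sh x), e, inv_mul_cancel]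
      generalize c.z' = w
      group
    rw [h3] at h1
    have := c.z'_pow_mem (one_mem _) h1
    omega
  let f : Bool ⊕ (Bool × ((h.S : Subgroup G) ⧸ JS)) → {p : W4 // c.IsPt p} := fun t =>
    match t with
    | Sum.inl b => ⟨if b then (2, (2, 0, 0)) else -(2, (2, 0, 0)),
        by cases b <;> [exact IsPt.neg c c.isPt_z; exact c.isPt_z]⟩
    | Sum.inr (b, x) => ⟨if b then (c.p4_surj (hshJ x)).choose else -(c.p4_surj (hshJ x)).choose, by
        have hx : c.IsPt (c.p4_surj (hshJ x)).choose :=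
          ⟨(x.out : G) * c.U, by
            rw [(c.p4_surj (hshJ x)).choose_spec]
            simp only [sh]; group⟩
        cases b <;> [exact IsPt.neg c hx; exact hx]⟩
  have hval : ∀ t, c.p4 (f t : W4) = match t with
      | Sum.inl b => if b then h.z else h.z⁻¹
      | Sum.inr (b, x) => if b then sh x else (sh x)⁻¹ := by
    rintro (b | ⟨b, x⟩) <;> cases b <;>
      simp only [f, Bool.false_eq_true, if_false, if_true, c.p4_neg, ← c.z_coord,
        (c.p4_surj (hshJ _)).choose_spec]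
  have hfinj : Function.Injective f := by
    intro t t' e
    have e' := congrArg (fun p : {p : W4 // c.IsPt p} => c.p4 p) e
    simp only [hval] at e'
    rcases t with b | ⟨b, x⟩ <;> rcases t' with b' | ⟨b', x'⟩
    · cases b <;> cases b' <;>
        first | rfl | exact absurd e' h.z_ne_inv | exact absurd e'.symm h.z_ne_inv
    · exfalso
      cases b <;> cases b' <;> simp only [Bool.false_eq_true, if_false, if_true] at e'
      · exact hQ x' (inv_injective e' ▸ h.z_mem_Q)
      · exact hQ x' (e' ▸ inv_mem h.z_mem_Q)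
      · exact hQ x' (by rw [← inv_inv (sh x'), ← e']; exact inv_mem h.z_mem_Q)
      · exact hQ x' (e' ▸ h.z_mem_Q)
    · exfalso
      cases b <;> cases b' <;> simp only [Bool.false_eq_true, if_false, if_true] at e'
      · exact hQ x (inv_injective e' ▸ h.z_mem_Q)
      · exact hQ x (by rw [← inv_inv (sh x), e']; exact inv_mem h.z_mem_Q)
      · exact hQ x (e' ▸ inv_mem h.z_mem_Q)
      · exact hQ x (e' ▸ h.z_mem_Q)
    · cases b <;> cases b' <;> simp only [Bool.false_eq_true, if_false, if_true] at e'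
      · rw [hinj x x' (inv_injective e')]
      · exact absurd e'.symm (hne x' x)
      · exact absurd e' (hne x x')
      · rw [hinj x x' e']
  have := Nat.card_le_card_of_injective f hfinj
  rw [Nat.card_sum, Nat.card_prod, hidx] at this
  simpa using this

/-- The conjugates of the centre in `J`. -/
theorem isPt_iff (p : W4) : c.IsPt p ↔ Sg p := by
  classical
  obtain ⟨b, hb, hW⟩ := c.W_act
  have hle : ∀ p, c.IsPt p → Sg p := by
    intro p hp
    by_contra hn
    rcases orbit_big b hb p hn with ⟨o, ho⟩ | hbig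
    · exact c.not_bad (IsPt.op c hW o hp) ho
    · refine absurd (hbig.trans_le ((Finset.card_le_card (t := Finset.univ.filter c.IsPt) ?_).trans ?_))
        (lt_irrefl 20)
      · intro q hq
        simp only [Finset.mem_union, Finset.mem_image, Finset.mem_univ, true_and,
          Finset.mem_filter] at hq ⊢
        rcases hq with ⟨o, rfl⟩ | ⟨h1, h2⟩
        · exact IsPt.op c hW o hp
        · exact c.isPt_known h1 h2
      · rw [← Fintype.card_subtype, ← Nat.card_eq_fintype_card]
        exact c.card_points_le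
  have heq : Finset.univ.filter c.IsPt = Finset.univ.filter Sg := by
    refine Finset.eq_of_subset_of_card_le (fun q hq => ?_) ?_
    · simp only [Finset.mem_filter, Finset.mem_univ, true_and] at hq ⊢
      exact hle q hq
    · rw [card_Sg, ← Fintype.card_subtype, ← Nat.card_eq_fintype_card]
      exact c.card_points_ge
  have := Finset.ext_iff.1 heq p
  simpa using this

end Coords

end CfsgLib.Recog.McLThree
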