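import Cfsg.Agent.Lib.Recog.McLThree.WeakY.Model

/-!
The standing hypotheses on the centraliser modulo the element: a self-centralising parametrised
subgroup of order 27 with monomial rotations, and the complement normalising the three involutions.
-/

set_option autoImplicit false
set_option linter.style.haveILetI false

namespace CfsgLib.Recog.McLThree.WeakY

open Subgroup
open CfsgLib.Recog.AltNine (detX)
open CfsgLib.Recog.SymNine (V Mon act comp monOne x0 e0 e1 e2 get weight Acts Norms act_comp act_one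
  act_add act_injective)

universe u

/-- The standing hypotheses. -/
structure Setup (H : Type u) [Group H] where
  /-- the parametrisation -/
  pt : V → H
  pt_add : ∀ v w, pt (v + w) = pt v * pt w
  pt_inj : Function.Injective pt
  cent : ∀ g, (∀ v, Commute g (pt v)) → g ∈ Set.range pt
  det : ∀ g, Norms pt g → ∃ m, detX m = true ∧ Acts pt g m
  /-- the three involutions -/
  tau : Fin 3 → H
  tau_sq : ∀ j, tau j * tau j = 1
  tau_comm : ∀ j k, Commute (tau j) (tau k)
  tau_acts : ∀ j, Acts pt (tau j) (dia j)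
  lift_cyc : ∃ g, Acts pt g cyc
  loc_one : ∀ g, Commute g (pt e1) → Norms pt g
  loc_three : ∀ g, Commute g (pt x0) → Norms pt g
  sig : ∀ R : Subgroup H, (Nat.card R).Coprime 3 →
    (∀ v, ∀ r ∈ R, pt v * r * (pt v)⁻¹ ∈ R) → R = ⊥

variable {H : Type u} [Group H] (D : Setup H)

namespace Setup

theorem pt_zero : D.pt 0 = 1 := by
  have h := D.pt_add 0 0
  rw [add_zero] at h
  exact left_eq_mul.1 h

theorem pt_neg (v : V) : D.pt (-v) = (D.pt v)⁻¹ :=
  eq_inv_of_mul_eq_one_left (by rw [← D.pt_add, neg_add_cancel, D.pt_zero])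

theorem commute_pt (v w : V) : Commute (D.pt v) (D.pt w) := by
  rw [Commute, SemiconjBy, ← D.pt_add, ← D.pt_add, add_comm]

theorem pt_cube (v : V) : D.pt v ^ 3 = 1 := by
  have h : ∀ v : V, v + v + v = 0 := by decide +kernel
  rw [pow_succ, pow_two, ← D.pt_add, ← D.pt_add, h, D.pt_zero]

/-- the subgroup of order 27 -/
def J : Subgroup H where
  carrier := Set.range D.pt
  one_mem' := ⟨0, D.pt_zero⟩
  mul_mem' := by rintro _ _ ⟨v, rfl⟩ ⟨w, rfl⟩; exact ⟨v + w, D.pt_add v w⟩
  inv_mem' := by rintro _ ⟨v, rfl⟩; exact ⟨-v, D.pt_neg v⟩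

theorem pt_mem (v : V) : D.pt v ∈ D.J := ⟨v, rfl⟩

theorem card_J : Nat.card D.J = 27 := by
  have e : D.J ≃ V := (Equiv.ofInjective D.pt D.pt_inj).symm
  rw [Nat.card_congr e, Nat.card_eq_fintype_card]
  rfl

/-- the normaliser -/
def N : Subgroup H := normalizer (D.J : Set H)

theorem mem_N_iff [Finite H] {g : H} : g ∈ D.N ↔ Norms D.pt g := by
  constructor
  · intro hg v
    obtain ⟨w, hw⟩ := (mem_normalizer_iff.1 hg (D.pt v)).1 (D.pt_mem v)
    exact ⟨w, hw.symm⟩
  · intro h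
    have : Finite (D.J : Set H) := Subtype.finite
    refine mem_normalizer_fintype fun n hn => ?_
    obtain ⟨v, rfl⟩ := hn
    obtain ⟨w, hw⟩ := h v
    rw [hw]
    exact D.pt_mem w

theorem J_le_N : D.J ≤ D.N := le_normalizer

theorem acts_mul {g k : H} {m n : Mon} (hg : Acts D.pt g m) (hk : Acts D.pt k n) :
    Acts D.pt (g * k) (comp m n) := fun v => by
  rw [show g * k * D.pt v * (g * k)⁻¹ = g * (k * D.pt v * k⁻¹) * g⁻¹ by group, hk, hg, act_comp]

theorem acts_one : Acts D.pt 1 monOne := fun v => by rw [act_one]; group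

theorem acts_unique {g : H} {m n : Mon} (hm : Acts D.pt g m) (hn : Acts D.pt g n) : m = n :=
  act_injective fun v => D.pt_inj ((hm v).symm.trans (hn v))

theorem acts_pt (w : V) : Acts D.pt (D.pt w) monOne := fun v => by
  rw [act_one, (D.commute_pt w v).eq, mul_inv_cancel_right]

theorem acts_fix {g : H} {m : Mon} {v : V} (hg : Acts D.pt g m) (hc : Commute g (D.pt v)) :
    act m v = v := D.pt_inj (by rw [← hg v, hc.eq, mul_inv_cancel_right])

theorem commute_of_fix {g : H} {m : Mon} {v : V} (hg : Acts D.pt g m) (hv : act m v = v) :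
    Commute g (D.pt v) := by
  have h := hg v
  rw [hv] at h
  exact mul_inv_eq_iff_eq_mul.1 h

theorem mem_J_of_acts {g : H} (hg : Acts D.pt g monOne) : g ∈ D.J :=
  D.cent g fun v => D.commute_of_fix hg (act_one v)

theorem exists_mon [Finite H] {g : H} (hg : g ∈ D.N) : ∃ m, detX m = true ∧ Acts D.pt g m :=
  D.det g (D.mem_N_iff.1 hg)

theorem mem_N_of_acts [Finite H] {g : H} {m : Mon} (hg : Acts D.pt g m) : g ∈ D.N :=
  D.mem_N_iff.2 fun v => ⟨_, hg v⟩

/-- the monomial map of an element of the normaliser -/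
noncomputable def mon [Finite H] (g : D.N) : Mon := (D.exists_mon g.2).choose

theorem mon_spec [Finite H] (g : D.N) : detX (D.mon g) = true ∧ Acts D.pt (g : H) (D.mon g) :=
  (D.exists_mon g.2).choose_spec

theorem mon_mul [Finite H] (g k : D.N) : D.mon (g * k) = comp (D.mon g) (D.mon k) :=
  D.acts_unique (D.mon_spec (g * k)).2 (D.acts_mul (D.mon_spec g).2 (D.mon_spec k).2)

theorem mon_eq [Finite H] {g : D.N} {m : Mon} (h : Acts D.pt (g : H) m) : D.mon g = m :=
  D.acts_unique (D.mon_spec g).2 h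

theorem tau_pt (j : Fin 3) (v : V) : D.tau j * D.pt v = D.pt (act (dia j) v) * D.tau j :=
  mul_inv_eq_iff_eq_mul.1 (D.tau_acts j v)

theorem tau_inj {j k : Fin 3} (h : Acts D.pt (D.tau j) (dia k)) : j = k := by
  have := D.acts_unique (D.tau_acts j) h
  revert this
  revert j k
  intro j k _ e
  exact (by decide +kernel : ∀ j k : Fin 3, dia j = dia k → j = k) j k e

/-- normalising the three involutions -/
def InK (g : H) : Prop := ∀ i, ∃ j, g * D.tau i * g⁻¹ = D.tau j

theorem InK.mul {g k : H} (hg : D.InK g) (hk : D.InK k) : D.InK (g * k) := fun i => by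
  obtain ⟨j, hj⟩ := hk i
  obtain ⟨l, hl⟩ := hg j
  exact ⟨l, by rw [show g * k * D.tau i * (g * k)⁻¹ = g * (k * D.tau i * k⁻¹) * g⁻¹ by group, hj, hl]⟩

theorem InK.one : D.InK 1 := fun i => ⟨i, by group⟩

theorem eq_of_acts {g k : H} {m : Mon} (hm : detX m = true) (hg : Acts D.pt g m) (hk : Acts D.pt k m)
    (hgK : D.InK g) (hkK : D.InK k) : g = k := by
  obtain ⟨a, ha⟩ : k⁻¹ * g ∈ D.J := D.cent _ fun v => by
    have h1 := hg v
    rw [← hk v] at h1
    exact mul_inv_eq_iff_eq_mul.1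
      (show k⁻¹ * g * D.pt v * (k⁻¹ * g)⁻¹ = D.pt v by
        rw [show k⁻¹ * g * D.pt v * (k⁻¹ * g)⁻¹ = k⁻¹ * (g * D.pt v * g⁻¹) * k by group, h1]; group)
  have hfix : ∀ i, act (dia i) a = a := fun i => by
    obtain ⟨j, hj⟩ := hgK i
    obtain ⟨l, hl⟩ := hkK i
    have hjl : j = l := by
      refine comp_cancel m j l hm ?_
      have e1 := D.acts_mul hg (D.tau_acts i)
      have e2 := D.acts_mul hk (D.tau_acts i)
      rw [show g * D.tau i = D.tau j * g from mul_inv_eq_iff_eq_mul.1 hj] at e1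
      rw [show k * D.tau i = D.tau l * k from mul_inv_eq_iff_eq_mul.1 hl] at e2
      exact (D.acts_unique (D.acts_mul (D.tau_acts j) hg) e1).trans
        (D.acts_unique (D.acts_mul (D.tau_acts l) hk) e2).symm
    rw [hjl, ← hl] at hj
    refine D.acts_fix (D.tau_acts i) ?_
    rw [ha]
    show D.tau i * (k⁻¹ * g) = k⁻¹ * g * D.tau i
    calc D.tau i * (k⁻¹ * g) = k⁻¹ * (k * D.tau i * k⁻¹) * g := by group
      _ = k⁻¹ * (g * D.tau i * g⁻¹) * g := by rw [hj]
      _ = _ := by group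
  rw [dia_fix_two a (hfix 0) (hfix 1), D.pt_zero] at ha
  exact (inv_mul_eq_one.1 ha.symm).symm

theorem exists_InK {g : H} {m : Mon} (hm : detX m = true) (hg : Acts D.pt g m) :
    ∃ w : V, D.InK (D.pt w * g) := by
  have hs : ∀ i, ∃ j : Fin 3, ∃ v : V, comp m (dia i) = comp (dia j) m ∧
      g * D.tau i * g⁻¹ = D.pt v * D.tau j ∧ get v j = 0 := fun i => by
    obtain ⟨j, hj⟩ := dia_conj m hm i
    have h1 := D.acts_mul hg (D.tau_acts i)
    rw [hj] at h1
    obtain ⟨v, hv⟩ : g * D.tau i * g⁻¹ * D.tau j ∈ D.J := D.cent _ fun v => by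
      refine mul_inv_eq_iff_eq_mul.1 ?_
      have e1 : D.tau j * g * (g⁻¹ * D.pt v * g) * (D.tau j * g)⁻¹ =
          D.tau j * D.pt v * (D.tau j)⁻¹ := by group
      have h2 : ∃ w, g⁻¹ * D.pt v * g = D.pt w ∧ act m w = v := by
        have hsur : Function.Surjective (act m) := Finite.injective_iff_surjective.1 fun a b hab =>
          D.pt_inj ((MulAut.conj g).injective (by
            show g * D.pt a * g⁻¹ = g * D.pt b * g⁻¹
            rw [hg, hg, hab]))
        obtain ⟨w, hw⟩ := hsur v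
        exact ⟨w, by rw [← hw, ← hg w]; group, hw⟩
      obtain ⟨w, hw, hwv⟩ := h2
      have ht : D.tau j * D.pt v * (D.tau j)⁻¹ = D.pt (act (dia j) v) := D.tau_acts j v
      calc g * D.tau i * g⁻¹ * D.tau j * D.pt v * (g * D.tau i * g⁻¹ * D.tau j)⁻¹
          = g * D.tau i * g⁻¹ * (D.tau j * D.pt v * (D.tau j)⁻¹) * g * (D.tau i)⁻¹ * g⁻¹ := by group
        _ = g * D.tau i * g⁻¹ * (D.tau j * g * D.pt w * (D.tau j * g)⁻¹) * g * (D.tau i)⁻¹ * g⁻¹ := by
            rw [← hw]; group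
        _ = g * D.tau i * g⁻¹ * (g * D.tau i * D.pt w * (g * D.tau i)⁻¹) * g * (D.tau i)⁻¹ * g⁻¹ := by
            rw [D.acts_mul (D.tau_acts j) hg w, h1 w]
        _ = g * (D.tau i * D.tau i) * D.pt w * (D.tau i * D.tau i)⁻¹ * g⁻¹ := by group
        _ = D.pt v := by rw [D.tau_sq]; simp only [inv_one, mul_one]; rw [hg, hwv]
    have he : g * D.tau i * g⁻¹ = D.pt v * D.tau j := by
      rw [hv, mul_assoc _ (D.tau j), D.tau_sq, mul_one]
    refine ⟨j, v, hj, he, dia_get j v (D.pt_inj ?_)⟩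
    have hsq : D.pt v * D.tau j * (D.pt v * D.tau j) = 1 := by
      rw [← he, show g * D.tau i * g⁻¹ * (g * D.tau i * g⁻¹) = g * (D.tau i * D.tau i) * g⁻¹ by group,
        D.tau_sq]
      group
    rw [D.pt_add, D.pt_zero, ← hsq]
    calc D.pt v * D.pt (act (dia j) v) = D.pt v * D.pt (act (dia j) v) * (D.tau j * D.tau j) := by
          rw [D.tau_sq, mul_one]
      _ = D.pt v * (D.pt (act (dia j) v) * D.tau j) * D.tau j := by group
      _ = _ := by rw [← D.tau_pt]; group
  obtain ⟨j, v, hj, ev, v0⟩ := hs 0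
  obtain ⟨k, v', hk, ev', v0'⟩ := hs 1
  have hjk : j ≠ k := fun e => absurd (comp_inj_left m 0 1 hm (by rw [hj, hk, e])) (by decide)
  have hcomm : v + act (dia j) v' = v' + act (dia k) v := D.pt_inj (by
    have e : Commute (D.pt v * D.tau j) (D.pt v' * D.tau k) := by
      rw [← ev, ← ev']
      exact (D.tau_comm 0 1).map (MulAut.conj g).toMonoidHom
    have e' := e.eq
    rw [show D.pt v * D.tau j * (D.pt v' * D.tau k) = D.pt v * (D.tau j * D.pt v') * D.tau k by group,
      show D.pt v' * D.tau k * (D.pt v * D.tau j) = D.pt v' * (D.tau k * D.pt v) * D.tau j by group,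
      D.tau_pt, D.tau_pt, ← mul_assoc, ← D.pt_add, mul_assoc _ (D.tau j), (D.tau_comm j k).eq,
      ← mul_assoc (D.pt v'), ← D.pt_add, mul_assoc _ (D.tau k)] at e'
    exact mul_right_cancel e')
  obtain ⟨f1, f2⟩ := fix2_spec j k hjk v v' v0 v0' hcomm
  set w := fix2 j v v'
  have key : ∀ (i l : Fin 3) (u : V), g * D.tau i * g⁻¹ = D.pt u * D.tau l →
      w + u - act (dia l) w = 0 → D.pt w * g * D.tau i * (D.pt w * g)⁻¹ = D.tau l := by
    intro i l u e f
    calc D.pt w * g * D.tau i * (D.pt w * g)⁻¹ = D.pt w * (g * D.tau i * g⁻¹) * (D.pt w)⁻¹ := by group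
      _ = D.pt w * D.pt u * (D.tau l * D.pt (-w)) := by rw [e, D.pt_neg]; group
      _ = D.pt (w + u + act (dia l) (-w)) * D.tau l := by
          rw [D.tau_pt, D.pt_add, D.pt_add]; group
      _ = D.tau l := by
          rw [show w + u + act (dia l) (-w) = 0 by
            rw [← f]
            have := act_add (dia l) w (-w)
            rw [add_neg_cancel] at this
            have h0 : ∀ l, act (dia l) 0 = 0 := by decide +kernel
            rw [h0] at this
            rw [eq_neg_of_add_eq_zero_right this.symm, sub_eq_add_neg], D.pt_zero, one_mul]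
  refine ⟨w, fun i => ?_⟩
  have k0 := key 0 j v ev f1
  have k1 := key 1 k v' ev' f2
  fin_cases i
  · exact ⟨j, k0⟩
  · exact ⟨k, k1⟩
  · -- the third is the product
    have h01 : D.tau 0 * D.tau 1 = D.tau 2 ∨ ∃ a, D.tau 0 * D.tau 1 = D.pt a * D.tau 2 := by
      right
      obtain ⟨a, ha⟩ : D.tau 0 * D.tau 1 * D.tau 2 ∈ D.J := by
        refine D.mem_J_of_acts ?_
        have := D.acts_mul (D.acts_mul (D.tau_acts 0) (D.tau_acts 1)) (D.tau_acts 2)
        rwa [show comp (comp (dia 0) (dia 1)) (dia 2) = monOne by decide +kernel] at this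
      exact ⟨a, by rw [ha, mul_assoc _ (D.tau 2), D.tau_sq, mul_one]⟩
    have h2 : D.tau 0 * D.tau 1 = D.tau 2 := by
      rcases h01 with h | ⟨a, ha⟩
      · exact h
      · have hf : ∀ i, act (dia i) a = a := fun i => D.acts_fix (D.tau_acts i) (by
          have e : D.pt a = D.tau 0 * D.tau 1 * D.tau 2 := by
            rw [ha, mul_assoc, D.tau_sq, mul_one]
          rw [e]
          exact ((D.tau_comm i 0).mul_right (D.tau_comm i 1)).mul_right (D.tau_comm i 2))
        rw [dia_fix_two a (hf 0) (hf 1), D.pt_zero, one_mul] at ha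
        exact ha
    obtain ⟨l, hl⟩ := dia_conj m hm 2
    refine ⟨l, ?_⟩
    have hl2 : l ≠ j ∧ l ≠ k := ⟨fun e => absurd (comp_inj_left m 2 0 hm (by rw [hl, hj, e])) (by decide),
      fun e => absurd (comp_inj_left m 2 1 hm (by rw [hl, hk, e])) (by decide)⟩
    show D.pt w * g * D.tau 2 * (D.pt w * g)⁻¹ = D.tau l
    rw [← h2, ← conj_mul, k0, k1]
    have h3 : ∀ a b c : Fin 3, a ≠ b → c ≠ a → c ≠ b → (a = 0 ∧ b = 1 ∧ c = 2) ∨ (a = 1 ∧ b = 0 ∧ c = 2) ∨
        (a = 0 ∧ b = 2 ∧ c = 1) ∨ (a = 2 ∧ b = 0 ∧ c = 1) ∨ (a = 1 ∧ b = 2 ∧ c = 0) ∨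
        (a = 2 ∧ b = 1 ∧ c = 0) := by decide
    have h20 : D.tau 2 * D.tau 0 = D.tau 1 := by
      rw [(D.tau_comm 2 0).eq, ← h2, ← mul_assoc, D.tau_sq, one_mul]
    have h12 : D.tau 1 * D.tau 2 = D.tau 0 := by
      rw [← h2, (D.tau_comm 0 1).eq, ← mul_assoc, D.tau_sq, one_mul]
    rcases h3 j k l hjk hl2.1 hl2.2 with h | h | h | h | h | h <;> obtain ⟨rfl, rfl, rfl⟩ := h
    · exact h2
    · rw [(D.tau_comm 1 0).eq]; exact h2
    · rw [(D.tau_comm 0 2).eq]; exact h20
    · exact h20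
    · exact h12
    · rw [(D.tau_comm 2 1).eq]; exact h12

/-- the monomial maps induced by the normaliser -/
def Lifted (m : Mon) : Prop := detX m = true ∧ ∃ g, Acts D.pt g m

theorem Lifted.comp {m n : Mon} (hm : D.Lifted m) (hn : D.Lifted n) :
    D.Lifted (CfsgLib.Recog.SymNine.comp m n) := by
  obtain ⟨h1, g, hg⟩ := hm
  obtain ⟨h2, k, hk⟩ := hn
  exact ⟨comp_detX m n h1 h2, g * k, D.acts_mul hg hk⟩

theorem lifted_ev {m : Mon} (hm : detX m = true) (he : m.1.val < 3) : D.Lifted m := by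
  obtain ⟨i, d, rfl⟩ := ev_gen m hm he
  have hd : ∀ j, D.Lifted (dia j) := fun j => ⟨dia_facts.1 j, _, D.tau_acts j⟩
  have hc : D.Lifted cyc := ⟨by decide +kernel, D.lift_cyc⟩
  have h1 : D.Lifted monOne := ⟨by decide +kernel, 1, D.acts_one⟩
  refine Lifted.comp D ?_ ?_
  · fin_cases d <;> first | exact h1 | exact hd 0 | exact hd 1 | exact hd 2
  · fin_cases i <;> first | exact h1 | exact hc | exact Lifted.comp D hc hc

theorem lifted_all {m₀ : Mon} (h₀ : D.Lifted m₀) (hodd : 3 ≤ m₀.1.val) {m : Mon}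
    (hm : detX m = true) : D.Lifted m := by
  by_cases he : m.1.val < 3
  · exact D.lifted_ev hm he
  · obtain ⟨k, hk, rfl⟩ := ev_quot m m₀ hm h₀.1 (not_lt.1 he) hodd
    exact Lifted.comp D (D.lifted_ev hk.1 hk.2) h₀

theorem exists_kk {m : Mon} (hm : D.Lifted m) : ∃ g, Acts D.pt g m ∧ D.InK g := by
  obtain ⟨hd, g, hg⟩ := hm
  obtain ⟨w, hw⟩ := D.exists_InK hd hg
  refine ⟨D.pt w * g, ?_, hw⟩
  have := D.acts_mul (D.acts_pt w) hg
  rwa [(comp_monOne m).2] at this

open scoped Classical in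
/-- the complement -/
noncomputable def kk (m : Mon) : H := if hm : D.Lifted m then (D.exists_kk hm).choose else 1

theorem kk_spec {m : Mon} (hm : D.Lifted m) : Acts D.pt (D.kk m) m ∧ D.InK (D.kk m) := by
  rw [kk, dif_pos hm]
  exact (D.exists_kk hm).choose_spec

theorem kk_mul {m n : Mon} (hm : D.Lifted m) (hn : D.Lifted n) :
    D.kk (CfsgLib.Recog.SymNine.comp m n) = D.kk m * D.kk n := by
  obtain ⟨a, b⟩ := D.kk_spec (Lifted.comp D hm hn)
  exact D.eq_of_acts (comp_detX m n hm.1 hn.1) a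
    (D.acts_mul (D.kk_spec hm).1 (D.kk_spec hn).1) b (InK.mul D (D.kk_spec hm).2 (D.kk_spec hn).2)

theorem kk_one : D.kk monOne = 1 := by
  have h1 : D.Lifted monOne := ⟨by decide +kernel, 1, D.acts_one⟩
  exact D.eq_of_acts h1.1 (D.kk_spec h1).1 D.acts_one (D.kk_spec h1).2 (InK.one D)

theorem kk_conj {m : Mon} (hm : D.Lifted m) (v : V) :
    D.kk m * D.pt v = D.pt (act m v) * D.kk m := mul_inv_eq_iff_eq_mul.1 ((D.kk_spec hm).1 v)

end Setup

end CfsgLib.Recog.McLThree.WeakY
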