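import Cfsg.Agent.Lib.Recog.McLThree.Points

/-!
The centraliser of a conjugate of the centre and a further element of `J` normalises `J`; no subgroup of
order prime to three in the centraliser of the centre is normalised by `J`.
-/

set_option autoImplicit false
set_option linter.style.haveILetI false
set_option linter.unusedSectionVars false

namespace CfsgLib.Recog.McLThree

open Subgroup

variable {G : Type*} [Group G] [Finite G] (h : Hyp G)

namespace Hyp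

theorem normJ_eq_of_map {g : G} (e : h.J.map (MulAut.conj g).toMonoidHom = h.J) :
    g ∈ normalizer (h.J : Set G) :=
  mem_normalizer_of_forward fun u hu => e.le ⟨u, hu, rfl⟩

/-- An element carrying `J` into its normaliser normalises it. -/
theorem normJ_of_conj_le {g : G} (hg : ∀ u ∈ h.J, g * u * g⁻¹ ∈ normalizer (h.J : Set G)) :
    g ∈ normalizer (h.J : Set G) := by
  haveI : Fact (Nat.Prime 3) := ⟨by norm_num⟩
  set J' := h.J.map (MulAut.conj g).toMonoidHom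
  have hle : J' ≤ normalizer (h.J : Set G) := by rintro _ ⟨u, hu, rfl⟩; exact hg u hu
  have hp : IsPGroup 3 (J' ⊔ h.J : Subgroup G) :=
    (h.J_isPGroup.map _).to_sup_of_normal_right' h.J_isPGroup hle
  refine h.normJ_eq_of_map (h.unique_J hp le_sup_right le_sup_left ?_ ?_)
  · rintro _ ⟨a, ha, rfl⟩ _ ⟨b, hb, rfl⟩
    rw [← map_mul, h.J_comm a ha b hb, map_mul]
  · rw [Subgroup.card_map_of_injective (MulAut.conj g).injective, h.J_card]

theorem normJ_of_pgroup {g : G} {P : Subgroup G} (hP : IsPGroup 3 P) (hJP : h.J ≤ P)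
    (hg : ∀ k ∈ P, g * k * g⁻¹ ∈ P) : g ∈ normalizer (h.J : Set G) := by
  refine h.normJ_eq_of_map (h.unique_J hP hJP ?_ ?_ ?_)
  · rintro _ ⟨u, hu, rfl⟩; exact hg u (hJP hu)
  · rintro _ ⟨a, ha, rfl⟩ _ ⟨b, hb, rfl⟩
    rw [← map_mul, h.J_comm a ha b hb, map_mul]
  · rw [Subgroup.card_map_of_injective (MulAut.conj g).injective, h.J_card]

theorem conj_L0' {g k : G} (hg : g ∈ h.NZ) (hk : k ∈ h.L0) : g * k * g⁻¹ ∈ h.L0 := by
  rw [h.L0_eq] at hk ⊢
  induction hk using closure_induction with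
  | mem a ha =>
    refine subset_closure ⟨mul_mem (mul_mem hg ha.1) (inv_mem hg), ?_⟩
    obtain ⟨m, hm⟩ := ha.2
    exact ⟨m, by rw [← hm]; exact MulEquiv.orderOf_eq (MulAut.conj g) a⟩
  | one => simp
  | mul a b _ _ ha hb => rw [← conj_mul]; exact mul_mem ha hb
  | inv a _ ha => rw [← conj_inv]; exact inv_mem ha

/-- The centraliser in `L0` of an element of `A` outside the centre is a `3`-group. -/
theorem pgroup_cent_A {x : G} (hxA : x ∈ h.A) (hxZ : x ∉ h.Z) :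
    IsPGroup 3 (centralizer ({x} : Set G) ⊓ h.L0 : Subgroup G) := by
  set C := centralizer ({x} : Set G)
  rw [IsPGroup.iff_card]
  have hd : Nat.card ↥(C ⊓ h.L0) ∣ 243 * 120 := h.card_L0 ▸ Subgroup.card_dvd_of_le inf_le_right
  have h2 : ¬ 2 ∣ Nat.card ↥(C ⊓ h.L0) := by
    intro hd2
    haveI : Fact (Nat.Prime 2) := ⟨Nat.prime_two⟩
    obtain ⟨⟨g, hg⟩, ho⟩ := exists_prime_orderOf_dvd_card' 2 hd2
    rw [Subgroup.orderOf_mk] at ho
    have hgC : g ∈ C := hg.1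
    have hgL : g ∈ h.L0 := hg.2
    have hg2 : g * g = 1 := by rw [← pow_two, ← ho]; exact pow_orderOf_eq_one g
    have hgQ : g ∉ h.Q := fun hq => by
      have := orderOf_dvd_of_pow_eq_one (h.Q_exp g hq)
      rw [ho] at this
      omega
    have hpi : h.piL ⟨g, hgL⟩ = -1 := by
      refine sl_involution _ ?_ fun e => hgQ ?_
      · rw [← map_mul, show (⟨g, hgL⟩ * ⟨g, hgL⟩ : h.L0) = 1 from Subtype.ext hg2, map_one]
      · have : (⟨g, hgL⟩ : h.L0) ∈ h.piL.ker := MonoidHom.mem_ker.2 e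
        rwa [h.piL_ker, mem_subgroupOf] at this
    refine hxZ ((h.neg_one_inverts hgL hpi hxA.2).2 ?_)
    rw [mem_centralizer_singleton_iff.1 hgC, mul_inv_cancel_right, mul_inv_cancel]
    exact one_mem _
  have h5 : ¬ 5 ∣ Nat.card ↥(C ⊓ h.L0) := by
    intro hd5
    haveI : Fact (Nat.Prime 5) := ⟨by norm_num⟩
    obtain ⟨⟨g, hg⟩, ho⟩ := exists_prime_orderOf_dvd_card' 5 hd5
    rw [Subgroup.orderOf_mk] at ho
    have hgC : g ∈ C := hg.1
    have hgL : g ∈ h.L0 := hg.2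
    have hg5 : g ^ 5 = 1 := by rw [← ho]; exact pow_orderOf_eq_one g
    have hg1 : g ≠ 1 := fun e => by rw [e, orderOf_one] at ho; omega
    refine hxZ (h.cent_five (h.L0_le_CZ hgL) hg5 hg1 hxA.2 le_rfl (zpowers_le.2 h.z_mem_Q)
      (fun w hw => h.conj_Q (h.CZ_le_NZ (h.L0_le_CZ hgL)) hw) hxA.2 (Or.inr ?_))
    rw [mem_centralizer_singleton_iff.1 hgC, mul_inv_cancel_right]
  have hd6 : Nat.card ↥(C ⊓ h.L0) ∣ 3 ^ 6 := by
    rw [show (243 * 120 : ℕ) = 3 ^ 6 * (2 ^ 3 * 5) by norm_num] at hd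
    refine Nat.Coprime.dvd_of_dvd_mul_right ?_ hd
    exact Nat.Coprime.mul_right
      (((Nat.Prime.coprime_iff_not_dvd Nat.prime_two).2 h2).symm.pow_right 3)
      ((Nat.Prime.coprime_iff_not_dvd (by norm_num)).2 h5).symm
  obtain ⟨k, -, hk⟩ := (Nat.dvd_prime_pow (by norm_num)).1 hd6
  exact ⟨k, hk⟩

theorem exists_A_notMem_Z : ∃ a ∈ h.A, a ∉ h.Z := by
  by_contra hc
  push Not at hc
  have := Subgroup.card_le_of_le (show h.A ≤ h.Z from hc)
  rw [h.card_A, h.card_Z] at this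
  omega

/-- The centraliser of the centre and of a further element of `J` normalises `J`. -/
theorem cent_z_le {x g : G} (hx : x ∈ h.J) (hxZ : x ∉ h.Z) (hgz : g * h.z = h.z * g)
    (hgx : g * x = x * g) : g ∈ normalizer (h.J : Set G) := by
  have hgN : g ∈ h.NZ := h.CZ_le_NZ (h.mem_CZ.2 hgz)
  by_cases hxQ : x ∈ h.Q
  · refine h.normJ_of_pgroup (h.pgroup_cent_A ⟨hx, hxQ⟩ hxZ) (le_inf (fun u hu =>
      mem_centralizer_singleton_iff.2 (h.J_comm u hu x hx)) (h.J_le.trans h.S_le_L0)) ?_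
    rintro k ⟨hk, hkL⟩
    refine ⟨mem_centralizer_singleton_iff.2 ?_, h.conj_L0' hgN hkL⟩
    calc g * k * g⁻¹ * x = g * k * (g⁻¹ * (x * g)) * g⁻¹ := by group
      _ = g * (k * x) * g⁻¹ := by rw [← hgx]; group
      _ = g * x * k * g⁻¹ := by rw [mem_centralizer_singleton_iff.1 hk]; group
      _ = x * (g * k * g⁻¹) := by rw [hgx]; group
  · obtain ⟨a, ha, haZ⟩ := h.exists_A_notMem_Z
    have hle : centralizer (h.A : Set G) ⊓ h.L0 ≤ centralizer ({a} : Set G) ⊓ h.L0 :=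
      fun k hk => ⟨mem_centralizer_singleton_iff.2 (mem_centralizer_iff.1 hk.1 a ha).symm, hk.2⟩
    refine h.normJ_of_pgroup ((h.pgroup_cent_A ha haZ).to_le hle) (le_inf (fun u hu =>
      mem_centralizer_iff.2 fun b hb => h.J_comm b hb.1 u hu) (h.J_le.trans h.S_le_L0)) ?_
    rintro k ⟨hk, hkL⟩
    have hgA : ∀ b ∈ h.A, g⁻¹ * b * g ∈ h.A := by
      intro b hb
      have hbQ : g⁻¹ * b * g⁻¹⁻¹ ∈ h.Q := h.conj_Q (inv_mem hgN) hb.2
      rw [inv_inv] at hbQ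
      refine h.fix_j hx hxQ hbQ ?_
      have hcx : g⁻¹ * x = x * g⁻¹ := ((show Commute g x from hgx).inv_left).eq
      have : x * (g⁻¹ * b * g) * x⁻¹ = g⁻¹ * b * g := by
        calc x * (g⁻¹ * b * g) * x⁻¹ = g⁻¹ * (x * b) * (x⁻¹ * g) := by
              rw [← ((show Commute g x from hgx).inv_right).eq, ← mul_assoc, ← mul_assoc, ← hcx]; group
          _ = g⁻¹ * b * g := by rw [h.J_comm x hx b hb.1]; group
      rw [this, mul_inv_cancel]
      exact one_mem _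
    refine ⟨mem_centralizer_iff.2 fun b hb => ?_, h.conj_L0' hgN hkL⟩
    have := mem_centralizer_iff.1 hk _ (hgA b hb)
    calc b * (g * k * g⁻¹) = g * ((g⁻¹ * b * g) * k) * g⁻¹ := by group
      _ = g * (k * (g⁻¹ * b * g)) * g⁻¹ := by rw [this]
      _ = g * k * g⁻¹ * b := by group

/-- The same at a conjugate of the centre. -/
theorem cent_point_le {x g f : G} (hx : x ∈ h.J) (hs : f * h.z * f⁻¹ ∈ h.J)
    (hxs : x ∉ zpowers (f * h.z * f⁻¹)) (hgs : g * (f * h.z * f⁻¹) = f * h.z * f⁻¹ * g)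
    (hgx : g * x = x * g) : g ∈ normalizer (h.J : Set G) := by
  obtain ⟨n, hn, e⟩ := h.fusion_J h.z_mem_J hs
  rw [← e] at hgs hxs
  have hk := h.cent_z_le (x := n⁻¹ * x * n⁻¹⁻¹) (g := n⁻¹ * g * n)
    (h.conj_J (inv_mem hn) hx) (fun hz => hxs ?_) ?_ ?_
  · have := mul_mem (mul_mem hn hk) (inv_mem hn)
    rwa [show n * (n⁻¹ * g * n) * n⁻¹ = g by group] at this
  · obtain ⟨i, hi⟩ := mem_zpowers_iff.1 hz
    refine mem_zpowers_iff.2 ⟨i, ?_⟩
    rw [conj_zpow, hi]; group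
  · calc n⁻¹ * g * n * h.z = n⁻¹ * (g * (n * h.z * n⁻¹)) * n := by group
      _ = h.z * (n⁻¹ * g * n) := by rw [hgs]; group
  · calc n⁻¹ * g * n * (n⁻¹ * x * n⁻¹⁻¹) = n⁻¹ * (g * x) * n := by group
      _ = n⁻¹ * x * n⁻¹⁻¹ * (n⁻¹ * g * n) := by rw [hgx]; group

/-- No subgroup of order prime to three of the centraliser of the centre is normalised by `J`. -/
theorem signalizer_z {R : Subgroup G} (hR : R ≤ h.CZ) (h3 : ¬ 3 ∣ Nat.card R)
    (hn : ∀ u ∈ h.J, ∀ r ∈ R, u * r * u⁻¹ ∈ R) : R = ⊥ := by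
  refine le_bot_iff.1 fun r hr => mem_bot.2 ?_
  have hord : ¬ 3 ∣ orderOf r := fun hd =>
    h3 (hd.trans (Subgroup.orderOf_dvd_natCard R hr))
  have hrQ : r ∈ h.Q → r = 1 := fun hq => by
    have h1 := orderOf_dvd_of_pow_eq_one (h.Q_exp r hq)
    rcases (Nat.dvd_prime Nat.prime_three).1 h1 with e | e
    · exact orderOf_eq_one_iff.1 e
    · exact absurd (dvd_of_eq e.symm) hord
  have hrA : ∀ a ∈ h.A, r * a = a * r := by
    intro a ha
    have h1 : a * r * a⁻¹ * r⁻¹ ∈ R := mul_mem (hn a ha.1 r hr) (inv_mem hr)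
    have h2 : a * r * a⁻¹ * r⁻¹ ∈ h.Q := by
      rw [show a * r * a⁻¹ * r⁻¹ = a * (r * a⁻¹ * r⁻¹) by group]
      exact mul_mem ha.2 (h.conj_Q (h.CZ_le_NZ (hR hr)) (inv_mem ha.2))
    have h4 : a * r * a⁻¹ * r⁻¹ = 1 := by
      have hd := orderOf_dvd_of_pow_eq_one (h.Q_exp _ h2)
      rcases (Nat.dvd_prime Nat.prime_three).1 hd with e | e
      · exact orderOf_eq_one_iff.1 e
      · exact absurd ((dvd_of_eq e.symm).trans (Subgroup.orderOf_dvd_natCard R h1)) h3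
    calc r * a = (a * r * a⁻¹ * r⁻¹)⁻¹ * (a * r) := by group
      _ = a * r := by rw [h4, inv_one, one_mul]
  have hcube : r ^ 3 ∈ h.Q := by
    refine h.cent_Q (mem_centralizer_iff.2 fun q hq => ?_)
    have hcC := hR hr
    have ha := h.comm_mem_A hq (h.conj_Q (h.CZ_le_NZ hcC) hq) (h.mem_CZ.1 hcC) hrA
    have hm : q⁻¹ * (r * q * r⁻¹) ∈ h.A := by
      refine h.centQ_A (mul_mem (inv_mem hq) (h.conj_Q (h.CZ_le_NZ hcC) hq)) fun b hb => ?_
      have hz := h.Q_comm q⁻¹ (inv_mem hq) (r * q * r⁻¹ * q⁻¹) ha.2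
      have e : q⁻¹ * (r * q * r⁻¹) =
          (q⁻¹ * (r * q * r⁻¹ * q⁻¹) * q⁻¹⁻¹ * (r * q * r⁻¹ * q⁻¹)⁻¹) * (r * q * r⁻¹ * q⁻¹) := by
        group
      rw [e, mul_assoc, h.A_comm _ ha b hb, ← mul_assoc, ← h.Z_comm_Q hb.2 hz, mul_assoc]
    have hqa : q * (q⁻¹ * (r * q * r⁻¹)) = r * q * r⁻¹ := by group
    have h4 := conj_pow_fixed hqa.symm (by rw [hrA _ hm, mul_inv_cancel_right]) 3
    rw [h.J_exp _ hm.1, mul_one] at h4
    exact (mul_inv_eq_iff_eq_mul.1 h4).symm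
  refine hrQ ?_
  obtain ⟨a, b, hab⟩ : ∃ a b : ℤ, (3 : ℤ) * a + (orderOf r : ℤ) * b = 1 := by
    have hco : Nat.gcd 3 (orderOf r) = 1 := (Nat.Prime.coprime_iff_not_dvd Nat.prime_three).2 hord
    exact ⟨Nat.gcdA 3 (orderOf r), Nat.gcdB 3 (orderOf r), by
      have := Nat.gcd_eq_gcd_ab 3 (orderOf r); rw [hco] at this; exact_mod_cast this.symm⟩
  rw [← zpow_one r, ← hab, zpow_add, zpow_mul, zpow_mul, show ((3 : ℤ)) = ((3 : ℕ) : ℤ) from rfl,
    zpow_natCast, zpow_natCast, pow_orderOf_eq_one, one_zpow, mul_one]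
  exact zpow_mem hcube a

end Hyp

end CfsgLib.Recog.McLThree
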