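import Cfsg.Prelude.Def_Local
import Cfsg.Prelude.Def_Spor_Conway
import Cfsg.Agent.Lib.Recog.McLThree.WeakY.Criterion
import Cfsg.Agent.Lib.Recog.McLThree.Main
import Cfsg.Agent.Lib.Recog.McLThree.LspFinal

/-!
The two characterisations with weakened hypotheses, given the criterion by the centraliser of an involution.
-/

set_option autoImplicit false

namespace CfsgLib.Recog.McLThree

open Subgroup

universe u

theorem weak_of_criterion (hrec : InvolutionCriterion.{u}) {G : Type u} [Group G] [Finite G]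
    (S : Sylow 3 G) (Z : Subgroup G) (hZ : Z = (S : Subgroup G) ⊓ Subgroup.centralizer ((S : Subgroup G) : Set G))
    (J : Subgroup G) (hJS : J ≤ S) (hJcomm : IsMulCommutative J) (hJexp : ∀ a ∈ J, a ^ 3 = 1) (hJcard : Nat.card J = 3 ^ 4)
    (M₀ : Subgroup G) (hM₀ : M₀ = Subgroup.closure {g : G | g ∈ Subgroup.normalizer (J : Set G) ∧ ∃ k : ℕ, orderOf g = 3 ^ k})
    (hJM : J ≤ M₀) [hJn : (J.subgroupOf M₀).Normal] (eM : M₀ ⧸ J.subgroupOf M₀ ≃* alternatingGroup (Fin 6))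
    (L₀ : Subgroup G) (hL₀ : L₀ = Subgroup.closure {g : G | g ∈ Subgroup.normalizer (Z : Set G) ∧ ∃ k : ℕ, orderOf g = 3 ^ k})
    (Q : Subgroup G) (hQ : Q = (Cfsg.pCore 3 (Subgroup.normalizer (Z : Set G))).map (Subgroup.normalizer (Z : Set G)).subtype)
    (hQex : Cfsg.IsExtraspecial 3 Q) (hQcard : Nat.card Q = 3 ^ 5) (hQexp : ∀ a ∈ Q, a ^ 3 = 1)
    (hQL : Q ≤ L₀) [hQn : (Q.subgroupOf L₀).Normal] (eL : L₀ ⧸ Q.subgroupOf L₀ ≃* Matrix.SpecialLinearGroup (Fin 2) (ZMod 5))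
    (hiii : Subgroup.centralizer (((Cfsg.pCore 3 (Subgroup.centralizer (Z : Set G))).map (Subgroup.centralizer (Z : Set G)).subtype : Subgroup G) : Set G)
        ≤ (Cfsg.pCore 3 (Subgroup.centralizer (Z : Set G))).map (Subgroup.centralizer (Z : Set G)).subtype) :
    Nonempty (G ≃* Cfsg.Spor.McL) ∨ Nonempty (G ≃* MulAut Cfsg.Spor.McL) := by
  obtain ⟨h⟩ := exists_hyp_weak S Z hZ J hJS hJcomm hJexp hJcard M₀ hM₀ hJM eM L₀ hL₀ Q hQ hQex hQcard
    hQexp hQL eL hiii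
  exact mcl_or_aut_weak hrec h

theorem lsp_of_criterion (hrec : InvolutionCriterion.{u}) {G : Type u} [Group G] [Finite G] (hO : Cfsg.pPrimeCore 3 G = ⊥) (Z : Subgroup G) (hZ : Nat.card ↥Z = 3) (S : Sylow 3 ↥(Subgroup.centralizer (Z : Set G))) (J : Subgroup G) (hJS : J ≤ ((S : Subgroup ↥(Subgroup.centralizer (Z : Set G))).map (Subgroup.centralizer (Z : Set G)).subtype)) (hJ : Cfsg.IsElementaryAbelian 3 J) (hJcard : Nat.card ↥J = 3 ^ 4) (hQ : Cfsg.IsExtraspecial 3 ↥(Cfsg.generalizedFittingSubgroup ↥(Subgroup.centralizer (Z : Set G)))) (hQcard : Nat.card ↥(Cfsg.generalizedFittingSubgroup ↥(Subgroup.centralizer (Z : Set G))) = 3 ^ 5) [hQn : (Cfsg.generalizedFittingSubgroup ↥(Subgroup.centralizer (Z : Set G))).Normal] (hexp : ∀ x ∈ Cfsg.generalizedFittingSubgroup ↥(Subgroup.centralizer (Z : Set G)), x ^ 3 = 1) (hFMQ : Nonempty (↥(Cfsg.generalizedFittingSubgroup (↥(Subgroup.centralizer (Z : Set G)) ⧸ Cfsg.generalizedFittingSubgroup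 ↥(Subgroup.centralizer (Z : Set G)))) ≃* Matrix.SpecialLinearGroup (Fin 2) (ZMod 5))) (hJF : ((Cfsg.generalizedFittingSubgroup ↥(Subgroup.normalizer (J : Set G))).map (Subgroup.normalizer (J : Set G)).subtype) = J) [hJn : (J.subgroupOf (Subgroup.normalizer (J : Set G))).Normal] (hA6 : Nonempty (↥(Subgroup.closure {x : ↥(Subgroup.normalizer (J : Set G)) ⧸ J.subgroupOf (Subgroup.normalizer (J : Set G)) | ∃ k : ℕ, orderOf x = 3 ^ k}) ≃* ↥(alternatingGroup (Fin 6)))) : Cfsg.Spor.IsoMcL ↥(Cfsg.generalizedFittingSubgroup G) := by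
  obtain ⟨h, -⟩ := exists_hyp_lsp Z hZ _ rfl S J hJS hJ hJcard hQ hQcard hexp hFMQ hA6
  exact isoMcL_fstar hrec h (fun c => c.cent_y_le_weak) (fun _ _ c => c.cent_y_le_weak)

end CfsgLib.Recog.McLThree
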